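/-
Alternating forms, and a common zero of a linear family of matrices: the facts needed for tensor
products of symplectic spaces.
-/
import Mathlib

set_option autoImplicit false
set_option linter.unusedSectionVars false

namespace CfsgLib.MaxSub.TensorSymp

open Module

variable {F : Type*} [Field F]

/-- A non-degenerate alternating form. -/
structure AForm {U : Type*} [AddCommGroup U] [Module F U] (f : U → U → F) : Prop where
  add_left : ∀ x y z, f (x + y) z = f x z + f y z
  smul_left : ∀ (a : F) x z, f (a • x) z = a * f x z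
  self : ∀ x, f x x = 0
  swap : ∀ x y, f y x = -f x y
  nondeg : ∀ x, (∀ y, f x y = 0) → x = 0

namespace AForm

variable {U : Type*} [AddCommGroup U] [Module F U] {f : U → U → F} (H : AForm f)
include H

/-- The functional of a vector. -/
def lin (z : U) : U →ₗ[F] F where
  toFun x := f x z
  map_add' x y := H.add_left x y z
  map_smul' a x := H.smul_left a x z

theorem lin_apply (x z : U) : H.lin z x = f x z := rfl

theorem zero_left (z : U) : f 0 z = 0 := map_zero (H.lin z)

theorem neg_left (x z : U) : f (-x) z = -f x z := map_neg (H.lin z) x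

theorem sub_left (x y z : U) : f (x - y) z = f x z - f y z := map_sub (H.lin z) x y

theorem sum_left {α : Type*} (s : Finset α) (g : α → U) (z : U) :
    f (∑ i ∈ s, g i) z = ∑ i ∈ s, f (g i) z := map_sum (H.lin z) g s

theorem add_right (x y z : U) : f x (y + z) = f x y + f x z := by
  rw [H.swap, H.add_left, H.swap x y, H.swap x z]
  ring

theorem smul_right (a : F) (x z : U) : f x (a • z) = a * f x z := by
  rw [H.swap, H.smul_left, H.swap x z]
  ring

theorem zero_right (x : U) : f x 0 = 0 := by rw [H.swap, H.zero_left, neg_zero]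

theorem neg_right (x z : U) : f x (-z) = -f x z := by rw [H.swap, H.neg_left, ← H.swap]

theorem sub_right (x y z : U) : f x (y - z) = f x y - f x z := by
  rw [sub_eq_add_neg, H.add_right, H.neg_right, sub_eq_add_neg]

theorem sum_right {α : Type*} (s : Finset α) (g : α → U) (z : U) :
    f z (∑ i ∈ s, g i) = ∑ i ∈ s, f z (g i) := by
  rw [H.swap, H.sum_left, ← Finset.sum_neg_distrib]
  exact Finset.sum_congr rfl fun i _ => (H.swap _ _).symm

theorem symm0 {x y : U} (h : f x y = 0) : f y x = 0 := by rw [H.swap, h, neg_zero]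

theorem symm_ne {x y : U} (h : f x y ≠ 0) : f y x ≠ 0 := fun e => h (H.symm0 e)

theorem ne_zero_left {x y : U} (h : f x y ≠ 0) : x ≠ 0 := fun e => h (by rw [e, H.zero_left])

theorem ext_left {x y : U} (h : ∀ z, f x z = f y z) : x = y :=
  sub_eq_zero.1 (H.nondeg _ fun z => by rw [H.sub_left, h, sub_self])

theorem exists_left {x : U} (hx : x ≠ 0) : ∃ y, f y x = 1 := by
  by_contra hc
  refine hx (H.nondeg x fun y => ?_)
  by_contra hy
  refine hc ⟨(f y x)⁻¹ • y, ?_⟩
  rw [H.smul_left, inv_mul_cancel₀ fun e => hy (H.symm0 e)]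

theorem exists_right {x : U} (hx : x ≠ 0) : ∃ y, f x y = 1 := by
  obtain ⟨y, hy⟩ := H.exists_left hx
  exact ⟨-y, by rw [H.neg_right, H.swap y x, hy, neg_neg]⟩

theorem not_mem_span {v x y : U} (hv : f v y = 0) (hx : f x y ≠ 0) : x ∉ F ∙ v := fun h => by
  obtain ⟨t, rfl⟩ := Submodule.mem_span_singleton.1 h
  exact hx (by rw [H.smul_left, hv, mul_zero])

theorem perp_span {v x : U} (h : x ∈ F ∙ v) : f x v = 0 := by
  obtain ⟨t, rfl⟩ := Submodule.mem_span_singleton.1 h
  rw [H.smul_left, H.self, mul_zero]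

/-- A vector perpendicular to the perpendicular of a line is on the line. -/
theorem perp_perp {v x : U} (hv : v ≠ 0) (h : ∀ z, f z v = 0 → f x z = 0) : x ∈ F ∙ v := by
  obtain ⟨y, hy⟩ := H.exists_left hv
  have hvy : f v y = -1 := by rw [H.swap, hy]
  refine Submodule.mem_span_singleton.2 ⟨-f x y, (sub_eq_zero.1 (H.nondeg _ fun z => ?_)).symm⟩
  have h1 := h (z - f z v • y) (by rw [H.sub_left, H.smul_left, hy, mul_one, sub_self])
  rw [H.sub_right, H.smul_right, H.swap v z] at h1
  rw [H.sub_left, H.smul_left]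
  linear_combination h1

theorem exists_perp_ne {v x : U} (hv : v ≠ 0) (hx : x ∉ F ∙ v) : ∃ z, f z v = 0 ∧ f x z ≠ 0 := by
  by_contra hc
  push Not at hc
  exact hx (H.perp_perp hv hc)

variable [FiniteDimensional F U]

/-- Few equations leave a large subspace. -/
theorem finrank_perp_le {m : ℕ} (g : Fin m → U) :
    ∃ P : Submodule F U, (∀ x, x ∈ P ↔ ∀ i, f x (g i) = 0) ∧ finrank F U ≤ finrank F P + m := by
  refine ⟨LinearMap.ker (LinearMap.pi fun i => H.lin (g i)), fun x => ?_, ?_⟩
  · rw [LinearMap.mem_ker, funext_iff]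
    exact Iff.rfl
  · have h1 := LinearMap.finrank_range_add_finrank_ker (LinearMap.pi fun i => H.lin (g i))
    have h2 := Submodule.finrank_le (LinearMap.range (LinearMap.pi fun i => H.lin (g i)))
    rw [Module.finrank_fin_fun] at h2
    omega

/-- The perpendicular of a subspace. -/
theorem exists_perp_sub (W : Submodule F U) :
    ∃ P : Submodule F U, (∀ x, x ∈ P ↔ ∀ w ∈ W, f w x = 0) ∧ finrank F U ≤ finrank F P + finrank F W := by
  let B := Module.finBasis F W
  obtain ⟨P, hP, hdim⟩ := H.finrank_perp_le fun i => (B i : U)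
  refine ⟨P, fun x => ⟨fun hx w hw => ?_, fun h => (hP x).2 fun i => H.symm0 (h _ (B i).2)⟩, hdim⟩
  have e := congrArg Subtype.val (B.sum_repr ⟨w, hw⟩)
  simp only [AddSubmonoidClass.coe_finsetSum, Submodule.coe_smul] at e
  rw [← e, H.sum_left]
  exact Finset.sum_eq_zero fun i _ => by rw [H.smul_left, H.symm0 ((hP x).1 hx i), mul_zero]

/-- A vector outside a line perpendicular to few given ones. -/
theorem exists_perp_notMem {m : ℕ} (g : Fin m → U) (h : m + 1 < finrank F U) (v : U) :
    ∃ x, (∀ i, f x (g i) = 0) ∧ x ∉ F ∙ v := by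
  obtain ⟨P, hP, hdim⟩ := H.finrank_perp_le g
  obtain ⟨x, hx, hxv⟩ := SetLike.not_le_iff_exists.1 fun hle : P ≤ F ∙ v => by
    have h1 := Submodule.finrank_mono hle
    have h2 : finrank F (F ∙ v) ≤ 1 := by
      refine le_trans (finrank_span_le_card ({v} : Set U)) ?_
      simp
    omega
  exact ⟨x, (hP x).1 hx, hxv⟩

/-- A functional is the form of a vector. -/
theorem exists_repr (φ : U →ₗ[F] F) : ∃ w, ∀ x, φ x = f x w := by
  let b := Module.finBasis F U
  let Φ : U →ₗ[F] (Fin (finrank F U) → F) := LinearMap.pi fun i => H.lin (b i)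
  have hΦ : Function.Injective Φ := (injective_iff_map_eq_zero Φ).2 fun x hx => H.nondeg x fun y => by
    rw [← b.sum_repr y, H.sum_right]
    exact Finset.sum_eq_zero fun i _ => by
      rw [H.smul_right, show f x (b i) = 0 from congrFun hx i, mul_zero]
  let e := LinearEquiv.ofInjectiveOfFinrankEq Φ hΦ (by rw [Module.finrank_fin_fun])
  refine ⟨∑ i, φ (e.symm (Pi.single i 1)) • b i, fun x => ?_⟩
  conv_lhs => rw [← e.symm_apply_apply x, pi_eq_sum_univ' (e x), map_sum, map_sum]
  rw [H.sum_right]
  refine Finset.sum_congr rfl fun i _ => ?_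
  rw [H.smul_right, map_smul, map_smul, smul_eq_mul, mul_comm]
  rfl

/-- Self-adjoint alternating maps are built from those of rank two. -/
theorem alt_induction (p : (U →ₗ[F] U) → Prop) (h0 : p 0) (hadd : ∀ S T, p S → p T → p (S + T))
    (hR : ∀ a b, p ((H.lin a).smulRight b - (H.lin b).smulRight a))
    (T : U →ₗ[F] U) (hT : ∀ x, f (T x) x = 0) : p T := by
  have hsa : ∀ T : U →ₗ[F] U, (∀ x, f (T x) x = 0) → ∀ x y, f (T x) y = f x (T y) := fun T hT x y => by
    have h := hT (x + y)
    rw [map_add, H.add_left, H.add_right, H.add_right, hT, hT] at h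
    rw [H.swap (T y) x]
    linear_combination h
  suffices key : ∀ n (T : U →ₗ[F] U), (∀ x, f (T x) x = 0) → finrank F (LinearMap.range T) ≤ n → p T from
    key _ T hT le_rfl
  intro n
  induction n with
  | zero =>
    intro T hT h
    rw [Nat.le_zero, Submodule.finrank_eq_zero, LinearMap.range_eq_bot] at h
    rw [h]
    exact h0
  | succ n ih =>
    intro T hT h
    by_cases hT0 : T = 0
    · rw [hT0]; exact h0
    obtain ⟨x₀, hx₀⟩ : ∃ x, T x ≠ 0 := by
      by_contra hc
      push Not at hc
      exact hT0 (LinearMap.ext hc)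
    obtain ⟨x₁, hx₁⟩ := H.exists_left hx₀
    set R := (H.lin (T x₀)).smulRight (T x₁) - (H.lin (T x₁)).smulRight (T x₀) with hRd
    have hRx : ∀ x, R x = f x (T x₀) • T x₁ - f x (T x₁) • T x₀ := fun x => rfl
    have hRa : ∀ x, f (R x) x = 0 := fun x => by
      rw [hRx, H.sub_left, H.smul_left, H.smul_left, H.swap x (T x₁), H.swap x (T x₀)]
      ring
    have hD : ∀ x, f ((T - R) x) x = 0 := fun x => by
      rw [LinearMap.sub_apply, H.sub_left, hT, hRa, sub_zero]
    have e01 : f x₀ (T x₁) = -1 := by rw [← hsa T hT, H.swap, hx₁]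
    have hlt : finrank F (LinearMap.range (T - R)) < finrank F (LinearMap.range T) := by
      refine Submodule.finrank_lt_finrank_of_lt (lt_of_le_of_ne ?_ fun e => ?_)
      · rintro _ ⟨x, rfl⟩
        rw [LinearMap.sub_apply, hRx, ← map_smul, ← map_smul, ← map_sub, ← map_sub]
        exact ⟨_, rfl⟩
      · obtain ⟨y, hy⟩ := e.ge ⟨x₀, rfl⟩
        have h1 := hsa _ hD y x₁
        rw [hy, H.swap x₁, hx₁, LinearMap.sub_apply T R x₁, hRx, hx₁,
          show f x₁ (T x₁) = 0 from H.symm0 (hT x₁), one_smul, zero_smul, sub_zero, sub_self,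
          H.zero_right] at h1
        exact one_ne_zero (neg_eq_zero.1 h1)
    have := hadd _ _ (ih (T - R) hD (by omega)) (hR (T x₀) (T x₁))
    rwa [sub_add_cancel] at this

end AForm

open MvPolynomial in
/-- A non-trivial zero of the determinant of a linear family. -/
theorem exists_det_zero [Fintype F] {V : Type*} [Fintype V] [DecidableEq V] {k : Type*} [Fintype k]
    [DecidableEq k] (hk : Nonempty k) (N : V → Matrix k k F) (hlt : Fintype.card k < Fintype.card V) :
    ∃ x : V → F, x ≠ 0 ∧ (∑ v, x v • N v).det = 0 := by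
  classical
  let L : Matrix k k (MvPolynomial V F) := fun a b => ∑ v, C (N v a b) * X v
  have hL : ∀ a b, (L a b).totalDegree ≤ 1 := fun a b =>
    (totalDegree_finsetSum _ _).trans (Finset.sup_le fun v _ => (totalDegree_mul _ _).trans (by
      rw [totalDegree_C, zero_add, totalDegree_X]))
  have hd : L.det.totalDegree ≤ Fintype.card k := by
    rw [Matrix.det_apply']
    refine (totalDegree_finsetSum _ _).trans (Finset.sup_le fun p _ => ?_)
    refine (totalDegree_mul _ _).trans ?_
    rw [show ((Equiv.Perm.sign p : ℤ) : MvPolynomial V F) = C ((Equiv.Perm.sign p : ℤ) : F) by simp,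
      totalDegree_C, zero_add]
    refine (totalDegree_finsetProd _ _).trans ?_
    calc ∑ i, (L (p i) i).totalDegree ≤ ∑ _i : k, 1 := Finset.sum_le_sum fun i _ => hL _ _
      _ = Fintype.card k := by simp
  have e : ∀ x : V → F, eval x L.det = (∑ v, x v • N v).det := fun x => by
    rw [RingHom.map_det]
    congr 1
    ext a b
    show eval x (∑ v, C (N v a b) * X v) = _
    simp [map_sum, Matrix.sum_apply, mul_comm (N _ _ _)]
  obtain ⟨p, hp⟩ := CharP.exists F
  have hprime := Fact.mk (CharP.char_is_prime F p)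
  have hdvd := char_dvd_card_solutions p (f := L.det) (lt_of_le_of_lt hd hlt)
  have h0 : eval (0 : V → F) L.det = 0 := by
    haveI := hk
    rw [e]
    simp
  obtain ⟨⟨x, hx⟩, hne⟩ := Fintype.exists_ne_of_one_lt_card
    (hprime.out.one_lt.trans_le (Nat.le_of_dvd (Fintype.card_pos_iff.2 ⟨⟨0, h0⟩⟩) hdvd)) ⟨0, h0⟩
  exact ⟨x, fun h => hne (Subtype.ext h), (e x).symm.trans hx⟩

end CfsgLib.MaxSub.TensorSymp
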