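/-
An element stabilising a space of pure tensors and transvecting along a member that is not pure gives
an element of the radical of the stabiliser of a space of pure tensors that is not pure.
-/
import Cfsg.Agent.Lib.MaxSub.TensorSymp.Basic

set_option autoImplicit false
set_option maxHeartbeats 400000
set_option linter.unusedSectionVars false

namespace CfsgLib.MaxSub.TensorSymp

open Matrix Module
open CfsgLib.MaxSub.TensorLin (Col colMap colMap_apply mem_col finrank_col colMap_injective vmv_eq_zero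
  vmv_zero NP map_map_inv exists_dot_one)

variable {F : Type*} [Field F] {ι κ : Type*} [Fintype ι] [Fintype κ] [DecidableEq ι] [DecidableEq κ]
variable {f1 : (ι → F) → (ι → F) → F} {f2 : (κ → F) → (κ → F) → F} {Q : Matrix ι κ F → F}
  {f : Matrix ι κ F → Matrix ι κ F → F} {G : Subgroup (Matrix ι κ F ≃ₗ[F] Matrix ι κ F)}

local notation "MV" => Matrix ι κ F

/-- An element of the radical at a vector of the second factor that is not pure. -/
def Ex (f2 : (κ → F) → (κ → F) → F) (G : Subgroup (Matrix ι κ F ≃ₗ[F] Matrix ι κ F)) : Prop :=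
  ∃ v : κ → F, v ≠ 0 ∧ ∃ D ∈ G, (∀ c, D (vecMulVec c v) = vecMulVec c v) ∧
    (∀ c x, f2 x v = 0 → D (vecMulVec c x) - vecMulVec c x ∈ Col v) ∧ ¬ Pure D

section

variable (O : TS f1 f2 Q f G)
include O

omit O in
theorem qel {D : MV ≃ₗ[F] MV} (hD : D ∈ G) {v : κ → F} (hv : v ≠ 0)
    (hfix : ∀ c, D (vecMulVec c v) = vecMulVec c v)
    (hQ : ∀ c x, f2 x v = 0 → D (vecMulVec c x) - vecMulVec c x ∈ Col v) : Ex f2 G ∨ Pure D := by
  by_cases h : Pure D
  · exact Or.inr h
  · exact Or.inl ⟨v, hv, D, hD, hfix, hQ, h⟩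

/-- An element stabilising an isotropic space of pure tensors and transvecting along a member that is
not pure gives a non-scalar endomorphism. -/
theorem stab {M : Submodule F MV} (hnp : NP M) (hM : Mem G M) {A : MV →ₗ[F] MV} (hA : Tr f G M A)
    {v : κ → F} (hv : v ≠ 0) (hN : ∀ c, A (vecMulVec c v) ∈ Col v) : Ex f2 G := by
  by_contra hex
  obtain ⟨y, hy, hyX⟩ := hA.elem
  obtain ⟨z, hz⟩ := O.h2.exists_right hv
  have hvv : f2 v v = 0 := O.h2.self v
  obtain ⟨Z, hZv, hZ0, hZdim⟩ := exists_compl O hv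
  have hback : ∀ Y ∈ Col (ι := ι) v, Y = vecMulVec (cv O z Y) v := fun Y hY => by
    obtain ⟨d, rfl⟩ := mem_col.1 hY
    rw [cv_pure, hz, one_smul]
  let φ : (ι → F) →ₗ[F] (ι → F) := cv O z ∘ₗ A ∘ₗ colMap v
  have hφ : ∀ c, A (vecMulVec c v) = vecMulVec (φ c) v := fun c => hback _ (hN c)
  have hφφ : ∀ c, φ (φ c) = 0 := fun c => by
    show cv O z (A (vecMulVec (φ c) v)) = 0
    rw [← hφ, hA.sq, map_zero]
  have hcvA : ∀ c x, f2 x v = 0 → cv O v (A (vecMulVec c x)) = 0 := fun c x hx => cv_eq_zero O fun d => by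
    rw [hA.skew, hφ, O.f_pure, hx, mul_zero, neg_zero]
  -- the commutator
  have key : ∀ w x, f2 w v = 0 → f2 x v = 0 → ∃ s : F, ∀ c,
      cv O w (A (vecMulVec c x)) = s • c + (f2 x w - s) • φ c := by
    intro w x hw hx
    obtain ⟨E, hE, hEX, -⟩ := eich O (v := v) (w := w) 0 hw
    have hwv : f2 v w = 0 := O.h2.symm0 hw
    have hEN : ∀ Y ∈ Col (ι := ι) v, E Y = Y := fun Y hY => by
      rw [hEX, dl_apply, cv_col O hvv hY, cv_col O hwv hY, zero_vecMulVec, zero_vecMulVec, smul_zero,
        add_zero, add_zero, add_zero]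
    have hyN : ∀ Y ∈ Col (ι := ι) v, y Y ∈ Col v ∧ y.symm Y ∈ Col v := fun Y hY => by
      obtain ⟨c, rfl⟩ := mem_col.1 hY
      exact ⟨by rw [hyX]; exact (Col v).add_mem (mem_col.2 ⟨c, rfl⟩) (hN c),
        by rw [hA.inv hyX]; exact (Col v).sub_mem (mem_col.2 ⟨c, rfl⟩) (hN c)⟩
    have hEq : ∀ Y, cv O v Y = 0 → E Y = Y + vecMulVec (cv O w Y) v := fun Y hY => by
      rw [hEX, dl_apply, hY, zero_vecMulVec, zero_vecMulVec, smul_zero, zero_add, add_zero]
    have hDfix : ∀ Y ∈ Col (ι := ι) v, (y * E * y⁻¹ * E⁻¹) Y = Y := fun Y hY => by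
      show y (E (y.symm (E.symm Y))) = Y
      rw [show E.symm Y = Y from E.injective (by rw [E.apply_symm_apply, hEN Y hY]),
        hEN _ (hyN Y hY).2, y.apply_symm_apply]
    have hDx : ∀ (c : ι → F) (x' : κ → F), f2 x' v = 0 → (y * E * y⁻¹ * E⁻¹) (vecMulVec c x') =
        vecMulVec c x' + vecMulVec (f2 x' w • φ c - cv O w (A (vecMulVec c x'))
          - φ (cv O w (A (vecMulVec c x')))) v := fun c x' hx' => by
      have e1 : E.symm (vecMulVec c x') = vecMulVec c x' - vecMulVec (f2 x' w • c) v := by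
        refine E.injective ?_
        rw [E.apply_symm_apply, map_sub, hEN _ (mem_col.2 ⟨_, rfl⟩),
          hEq _ (by rw [cv_pure, hx', zero_smul]), cv_pure, add_sub_cancel_right]
      show y (E (y.symm (E.symm (vecMulVec c x')))) = _
      rw [e1, map_sub, map_sub E, hEN _ (hyN _ (mem_col.2 ⟨_, rfl⟩)).2, map_sub y, y.apply_symm_apply,
        hA.inv hyX, hEq _ (by rw [map_sub, hcvA c x' hx', cv_pure, hx', zero_smul, sub_zero]),
        map_add y, map_sub (cv O w), cv_pure, ← hA.inv hyX, y.apply_symm_apply, hyX (vecMulVec _ v),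
        hφ, map_sub φ, map_smul φ]
      simp only [sub_vmv]
      abel
    rcases qel (f2 := f2) (mul_mem (mul_mem (mul_mem hy hE) (inv_mem hy)) (inv_mem hE)) hv
      (fun c => hDfix _ (mem_col.2 ⟨c, rfl⟩))
      (fun c x' hx' => by rw [hDx c x' hx', add_sub_cancel_left]; exact mem_col.2 ⟨_, rfl⟩) with h | ⟨L, hL⟩
    · exact absurd h hex
    · refine ⟨-f2 (L x - x) z, fun c => ?_⟩
      set s := f2 (L x - x) z
      have h1 : f2 x w • φ c - cv O w (A (vecMulVec c x)) - φ (cv O w (A (vecMulVec c x))) = s • c := by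
        have e := hL c x
        rw [hDx c x hx] at e
        have := congrArg (cv O z) (eq_sub_of_add_eq' e)
        rwa [← vmv_sub, cv_pure, cv_pure, hz, one_smul] at this
      set k := cv O w (A (vecMulVec c x))
      have h2 : -φ k = s • φ c := by
        have := congrArg φ h1
        rw [map_sub, map_sub, map_smul, hφφ, smul_zero, hφφ, zero_sub, sub_zero, map_smul] at this
        exact this
      have h3 : k = f2 x w • φ c + -φ k - s • c := by rw [← h1]; abel
      rw [h3, h2]
      module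
  by_cases hφ0 : φ = 0
  · have hAN : ∀ Y ∈ Col (ι := ι) v, A Y = 0 := fun Y hY => by
      obtain ⟨c, rfl⟩ := mem_col.1 hY
      rw [hφ, hφ0, LinearMap.zero_apply, zero_vecMulVec]
    have hMv : ∀ m ∈ M, cv O v m = 0 := fun m hm => cv_eq_zero O fun d => (f_comm O _ _).trans
      (hA.perp O (hAN _ (mem_col.2 ⟨d, rfl⟩)) hm)
    choose! s hs using key
    have hs' : ∀ w x, f2 w v = 0 → f2 x v = 0 → ∀ c, cv O w (A (vecMulVec c x)) = s w x • c :=
      fun w x hw hx c => by rw [hs w x hw hx c, hφ0, LinearMap.zero_apply, smul_zero, add_zero]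
    have pureA : ∀ {g : MV ≃ₗ[F] MV}, Pure g → (∀ X, g X = X + A X) → False := fun {g} hg hgX => by
      obtain ⟨L, hL⟩ := hg
      have hAp : ∀ c x, A (vecMulVec c x) = vecMulVec c (L x - x) := fun c x => by
        rw [vmv_sub, ← hL, hgX, add_sub_cancel_left]
      obtain ⟨x, hx⟩ : ∃ x, L x - x ≠ 0 := by
        by_contra hc
        push Not at hc
        have h0 : ∀ X, A X = 0 := ext_pure (B := (0 : MV →ₗ[F] MV)) fun c x => by
          rw [hAp, hc, vmv_zero, LinearMap.zero_apply]
        have := mem_finrank O hM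
        rw [show M = ⊥ from (Submodule.eq_bot_iff M).2 fun m hm => by
          obtain ⟨X, rfl⟩ := hA.onto m hm
          exact h0 X, finrank_bot] at this
        have := O.two
        omega
      refine hnp (L x - x) (Submodule.eq_of_le_of_finrank_eq (fun Y hY => ?_) ?_).symm
      · obtain ⟨d, rfl⟩ := mem_col.1 hY
        exact hAp d x ▸ hA.mem _
      · rw [finrank_col hx, mem_finrank O hM]
    by_cases hall : ∀ w x, f2 w v = 0 → f2 x v = 0 → s w x = 0
    · rcases qel hy hv (fun c => by rw [hyX, hAN _ (mem_col.2 ⟨c, rfl⟩), add_zero])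
        (fun c x hx => by
          rw [hyX, add_sub_cancel_left]
          exact col_of_cv O hv fun w hw => by rw [hs' w x hw hx, hall w x hw hx, zero_smul]) with h | h
      · exact hex h
      · exact pureA h hyX
    push Not at hall
    obtain ⟨w₁, x₁, hw₁, hx₁, hs1⟩ := hall
    let B : (ι → F) →ₗ[F] MV := A ∘ₗ colMap x₁
    have hB : ∀ w, f2 w v = 0 → ∀ c, cv O w (B c) = s w x₁ • c := fun w hw c => hs' w x₁ hw hx₁ c
    have hBinj : Function.Injective B := (injective_iff_map_eq_zero B).2 fun c hc => by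
      have := hB w₁ hw₁ c
      rw [hc, map_zero] at this
      exact (smul_eq_zero.1 this.symm).resolve_left hs1
    have hBonto : ∀ m ∈ M, ∃ c, B c = m := fun m hm => by
      have e : LinearMap.range B = M := Submodule.eq_of_le_of_finrank_eq
        (fun X ⟨c, hc⟩ => hc ▸ hA.mem _)
        (by rw [LinearMap.finrank_range_of_inj hBinj, mem_finrank O hM,
          Module.finrank_fintype_fun_eq_card])
      exact LinearMap.mem_range.1 (e ▸ hm)
    -- the second factor
    obtain ⟨c₀, hc₀⟩ : ∃ c : ι → F, c ≠ 0 := by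
      have := O.two
      obtain ⟨i⟩ : Nonempty ι := Fintype.card_pos_iff.1 (by omega)
      exact ⟨Pi.single i 1, by simp⟩
    obtain ⟨η, hη⟩ := exists_dot_one hc₀
    set u : κ → F := η ᵥ* (B c₀) with hu
    have hu_apply : ∀ w, f2 u w = η ⬝ᵥ cv O w (B c₀) := fun w => by
      rw [hu, vecMul_eq_sum, O.h2.sum_left]
      exact Finset.sum_congr rfl fun i _ => O.h2.smul_left _ _ _
    have huv : f2 u v = 0 := by rw [hu_apply, hMv (B c₀) (hA.mem _), dotProduct_zero]
    have huw : ∀ w, f2 w v = 0 → f2 u w = s w x₁ := fun w hw => by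
      rw [hu_apply, hB w hw, dotProduct_smul, dotProduct_comm, hη, smul_eq_mul, mul_one]
    have hBu : ∀ c, B c - vecMulVec c u ∈ Col v := fun c => col_of_cv O hv fun w hw => by
      rw [map_sub, hB w hw, cv_pure, huw w hw, sub_self]
    have huu : f2 u u = 0 := O.h2.self u
    set r : (κ → F) → F := fun x => s w₁ x / s w₁ x₁ with hr
    have hAr : ∀ c x, f2 x v = 0 → A (vecMulVec c x) = r x • B c := fun c x hx => by
      obtain ⟨d, hd⟩ := hBonto _ (hA.mem (vecMulVec c x))
      have h1 := hs' w₁ x hw₁ hx c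
      rw [← hd, hB w₁ hw₁] at h1
      rw [← hd, ← map_smul]
      congr 1
      calc d = (s w₁ x₁)⁻¹ • (s w₁ x₁ • d) := by rw [smul_smul, inv_mul_cancel₀ hs1, one_smul]
        _ = r x • c := by rw [h1, smul_smul]; simp only [hr]; rw [div_eq_inv_mul]
    have hsk : ∀ x x', f2 x v = 0 → f2 x' v = 0 → r x * f2 u x' = r x' * f2 u x := by
      intro x x' hx hx'
      obtain ⟨d, hd⟩ := O.h1.exists_left hc₀
      have := hA.skew (vecMulVec d x) (vecMulVec c₀ x')
      rw [hAr d x hx, hAr c₀ x' hx', O.f_smul, fsr O, f_cv O, hB x' hx',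
        f_cv' O, hB x hx, O.h1.smul_left, O.h1.smul_left, hd, ← huw x' hx', ← huw x hx,
        O.h1.swap d c₀, hd] at this
      linear_combination this
    set l := -r w₁ / f2 u w₁ with hl
    have hu1 : f2 u w₁ ≠ 0 := by rwa [huw w₁ hw₁]
    have hrl : ∀ x, f2 x v = 0 → r x = l * f2 x u := fun x hx => by
      rw [hl, div_mul_eq_mul_div, eq_div_iff hu1, hsk x w₁ hx hw₁, O.h2.swap u x]
      ring
    obtain ⟨t, ht, htX, -⟩ := tv O u (-l)
    rcases qel (f2 := f2) (mul_mem hy ht) hv (fun c => by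
        show y (t _) = _
        rw [htX, cv_pure, O.h2.symm0 huv, zero_smul, zero_vecMulVec, smul_zero, add_zero, hyX,
          hAN _ (mem_col.2 ⟨c, rfl⟩), add_zero])
      (fun c x hx => by
        show y (t _) - _ ∈ _
        rw [htX, map_add, map_smul, hyX, hyX, cv_pure, smul_vecMulVec, map_smul, hAr c x hx,
          hAr c u huv, hrl u huv, huu, mul_zero, zero_smul, smul_zero, add_zero, hrl x hx,
          show vecMulVec c x + (l * f2 x u) • B c + -l • f2 x u • vecMulVec c u - vecMulVec c x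
            = (l * f2 x u) • (B c - vecMulVec c u) by module]
        exact (Col v).smul_mem _ (hBu c)) with h | h
    · exact hex h
    · refine pureA ?_ hyX
      rw [← mul_inv_cancel_right y t]
      refine pure_mul O h ?_
      obtain ⟨t', ht', ht'X, ht'p⟩ := tv O u l
      convert ht'p
      refine (inv_eq_of_mul_eq_one_left (LinearEquiv.ext fun X => ?_))
      show t' (t X) = X
      rw [ht'X, htX, map_add, map_smul, cv_pure, huu, zero_smul, smul_zero, add_zero]
      module
  -- a non-zero restriction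
  let M₁ := M ⊓ LinearMap.ker (cv O v)
  have hR : finrank F (LinearMap.range φ) + finrank F M₁ ≤ Fintype.card ι := by
    obtain ⟨P, hP, hdim⟩ := O.h1.exists_perp_sub (M.map (cv O v))
    have hPk : P ≤ LinearMap.ker φ := fun d hd => by
      refine LinearMap.mem_ker.2 ((colMap_injective hv) ?_)
      rw [colMap_apply, colMap_apply, zero_vecMulVec, ← hφ]
      refine hA.ker _ fun m hm => (f_comm O _ _).trans ?_
      rw [f_cv O]
      exact (hP d).1 hd _ (Submodule.mem_map_of_mem hm)
    have h1 := Submodule.finrank_mono hPk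
    have h2 := LinearMap.finrank_range_add_finrank_ker φ
    have h3 := rank_add_ker O hM v
    rw [Module.finrank_fintype_fun_eq_card] at hdim h2
    show _ + finrank F (M ⊓ LinearMap.ker (cv O v) : Submodule F MV) ≤ _
    change _ ≤ _ + rank O M v at hdim
    omega
  have room : ∀ (S : Submodule F MV), S ≤ M₁ → (∀ X ∈ S, X ∈ Col v → X = 0) →
      finrank F S + 2 * finrank F (LinearMap.range φ) ≤ Fintype.card ι := fun S hS hSN => by
    let R := (LinearMap.range φ).map (colMap v)
    have hR' : finrank F R = finrank F (LinearMap.range φ) :=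
      ((Submodule.equivMapOfInjective _ (colMap_injective hv) _).finrank_eq).symm
    have hRle : R ≤ M₁ := by
      rintro _ ⟨_, ⟨c, rfl⟩, rfl⟩
      rw [colMap_apply, ← hφ]
      refine ⟨hA.mem _, LinearMap.mem_ker.2 ?_⟩
      rw [hφ, cv_pure, hvv, zero_smul]
    have hdis : S ⊓ R = ⊥ := (Submodule.eq_bot_iff _).2 fun X hX => hSN X hX.1 (by
      obtain ⟨d, -, rfl⟩ := hX.2
      exact mem_col.2 ⟨d, rfl⟩)
    have h1 := Submodule.finrank_sup_add_finrank_inf_eq S R
    rw [hdis, finrank_bot] at h1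
    have h2 := Submodule.finrank_mono (sup_le hS hRle)
    omega
  have hk : 1 ≤ finrank F (LinearMap.range φ) := Nat.one_le_iff_ne_zero.2 fun e => hφ0
    (LinearMap.range_eq_bot.1 (Submodule.finrank_eq_zero.1 e))
  have hs0 : ∀ w x, f2 w v = 0 → f2 x v = 0 → ∀ c,
      cv O w (A (vecMulVec c x)) = f2 x w • φ c := by
    intro w x hw hx c
    obtain ⟨s, hs⟩ := key w x hw hx
    suffices s = 0 by rw [hs, this, zero_smul, zero_add, sub_zero]
    by_contra hs0
    let Ψ : LinearMap.ker φ →ₗ[F] MV := A ∘ₗ colMap x ∘ₗ (LinearMap.ker φ).subtype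
    have hΨ : ∀ c : LinearMap.ker φ, cv O w (Ψ c) = s • (c : ι → F) := fun c => by
      show cv O w (A (vecMulVec (c : ι → F) x)) = _
      rw [hs, LinearMap.mem_ker.1 c.2, smul_zero, add_zero]
    have h1 := room (LinearMap.range Ψ) (by
        rintro _ ⟨c, rfl⟩
        exact ⟨hA.mem _, LinearMap.mem_ker.2 (hcvA _ x hx)⟩) (by
        rintro _ ⟨c, rfl⟩ hc
        have := hΨ c
        rw [cv_col O (O.h2.symm0 hw) hc] at this
        rw [show c = 0 from Subtype.ext ((smul_eq_zero.1 this.symm).resolve_left hs0), map_zero])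
    have hinj : Function.Injective Ψ := (injective_iff_map_eq_zero Ψ).2 fun c hc => by
      have := hΨ c
      rw [hc, map_zero] at this
      exact Subtype.ext ((smul_eq_zero.1 this.symm).resolve_left hs0)
    rw [LinearMap.finrank_range_of_inj hinj] at h1
    have h2 := LinearMap.finrank_range_add_finrank_ker φ
    rw [Module.finrank_fintype_fun_eq_card] at h2
    omega
  obtain ⟨c, hc⟩ : ∃ c, φ c ≠ 0 := by
    by_contra hc
    push Not at hc
    exact hφ0 (LinearMap.ext hc)
  let Ψ : Z →ₗ[F] MV :=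
    { toFun := fun x => A (vecMulVec c (x : κ → F))
      map_add' := fun x y => by rw [Submodule.coe_add, vecMulVec_add, map_add]
      map_smul' := fun t x => by rw [Submodule.coe_smul, vmv_smul, map_smul, RingHom.id_apply] }
  have hΨN : ∀ x, Ψ x ∈ Col v → x = 0 := fun x hx => by
    refine Subtype.ext (hZ0 _ x.2 (O.h2.perp_perp hv fun w hw => ?_))
    have := hs0 w x hw (hZv _ x.2) c
    rw [cv_col O (O.h2.symm0 hw) (show A (vecMulVec c (x : κ → F)) ∈ Col v from hx)] at this
    exact (smul_eq_zero.1 this.symm).resolve_right hc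
  have h1 := room (LinearMap.range Ψ) (by
      rintro _ ⟨x, rfl⟩
      exact ⟨hA.mem _, LinearMap.mem_ker.2 (hcvA _ _ (hZv _ x.2))⟩) (by
      rintro _ ⟨x, rfl⟩ hx
      rw [hΨN x hx, map_zero])
  rw [LinearMap.finrank_range_of_inj ((injective_iff_map_eq_zero Ψ).2 fun x hx =>
    hΨN x (hx ▸ (Col v).zero_mem))] at h1
  have := O.lt
  omega

end

end CfsgLib.MaxSub.TensorSymp
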