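/-
A member that is not pure gives an element of the radical that is not pure: induction on the rank of
its pairing with a space of pure tensors.
-/
import Cfsg.Agent.Lib.MaxSub.TensorSymp.Stab

set_option autoImplicit false
set_option maxHeartbeats 1200000
set_option linter.unusedSectionVars false

namespace CfsgLib.MaxSub.TensorSymp

open Matrix Module
open CfsgLib.MaxSub.TensorLin (Col colMap colMap_apply mem_col finrank_col colMap_injective vmv_eq_zero
  vmv_zero NP map_map_inv)

variable {F : Type*} [Field F] {ι κ : Type*} [Fintype ι] [Fintype κ] [DecidableEq ι] [DecidableEq κ]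
variable {f1 : (ι → F) → (ι → F) → F} {f2 : (κ → F) → (κ → F) → F} {Q : Matrix ι κ F → F}
  {f : Matrix ι κ F → Matrix ι κ F → F} {G : Subgroup (Matrix ι κ F ≃ₗ[F] Matrix ι κ F)}

local notation "MV" => Matrix ι κ F

section

variable (O : TS f1 f2 Q f G)
include O

theorem f_dl (v w : κ → F) (μ : F) (X Y : MV) : f (dl O v w μ X) Y =
    f1 (cv O w Y) (cv O v X) + f1 (cv O v Y) (cv O w X) + μ * f1 (cv O v Y) (cv O v X) := by
  rw [dl_apply, O.f_add, O.f_add, O.f_smul, f_cv' O, f_cv' O, f_cv' O]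

omit O in
theorem vmv_sum {α : Type*} (s : Finset α) (c : ι → F) (g : α → κ → F) :
    vecMulVec c (∑ a ∈ s, g a) = ∑ a ∈ s, vecMulVec c (g a) := by
  ext i j
  simp only [vecMulVec_apply, Matrix.sum_apply, Finset.sum_apply, Finset.mul_sum]

/-- All members that are not pure pair fully with isotropic vectors. -/
def Full (G : Subgroup (Matrix ι κ F ≃ₗ[F] Matrix ι κ F)) (O : TS f1 f2 Q f G) : Prop :=
  ∀ L, Mem G L → NP L → ∀ v, v ≠ 0 → ¬ rank O L v < Fintype.card ι

theorem full_injective (hF : Full G O) {M : Submodule F MV} (hM : Mem G M) (hnp : NP M) {v : κ → F}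
    (hv : v ≠ 0) {m : MV} (hm : m ∈ M) (h : cv O v m = 0) : m = 0 := by
  have h1 := hF M hM hnp v hv
  have h2 := rank_add_ker O hM v
  have h3 : (M ⊓ LinearMap.ker (cv O v) : Submodule F MV) = ⊥ := Submodule.finrank_eq_zero.1 (by omega)
  exact (Submodule.eq_bot_iff _).1 h3 m ⟨hm, LinearMap.mem_ker.2 h⟩

theorem tr_injective (hF : Full G O) {M : Submodule F MV} (hM : Mem G M) (hnp : NP M)
    {A : MV →ₗ[F] MV} (hA : Tr f G M A) {v : κ → F} (hv : v ≠ 0) {c : ι → F}
    (h : A (vecMulVec c v) = 0) : c = 0 := by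
  refine O.h1.nondeg c fun d => O.h1.symm0 ?_
  have hsurj : M.map (cv O v) = ⊤ := by
    refine Submodule.eq_top_of_finrank_eq (le_antisymm (Submodule.finrank_le _) ?_)
    rw [Module.finrank_fintype_fun_eq_card]
    exact Nat.le_of_not_lt (hF M hM hnp v hv)
  obtain ⟨m, hm, rfl⟩ := hsurj.ge (Submodule.mem_top (x := d))
  rw [← f_cv O]
  exact (f_comm O _ _).trans (hA.perp O h hm)

/-- The third member is pure. -/
theorem pureThree (hF : Full G O) {M : Submodule F MV} (hM : Mem G M) (hnp : NP M)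
    {A : MV →ₗ[F] MV} (hA : Tr f G M A) {v w : κ → F} {μ : F} (hv : v ≠ 0)
    (hwv : f2 w v = 0) (hw : w ∉ F ∙ v)
    (hB : ∀ X ∈ M, ∀ Y ∈ M, f (dl O v w μ X) Y = 0) :
    ∃ δ : F, ∀ c, cv O (w + δ • v) (A (vecMulVec c v)) = c := by
  obtain ⟨y, hy, hyX⟩ := hA.elem
  obtain ⟨E, hE, hEX, -⟩ := eich O μ hwv
  have hvv : f2 v v = 0 := O.h2.self v
  have hvw : f2 v w = 0 := O.h2.symm0 hwv
  have hδN : ∀ c, dl O v w μ (vecMulVec c v) = 0 := fun c => by simp [dl_apply, cv_pure, hvv, hvw]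
  have hcalc : ∀ c, (y * E * y⁻¹ * E⁻¹) (vecMulVec c v)
      = vecMulVec c v - dl O v w μ (A (vecMulVec c v)) := fun c => by
    show y (E (y.symm (E.symm (vecMulVec c v)))) = _
    rw [show E.symm (vecMulVec c v) = vecMulVec c v from
      E.injective (by rw [E.apply_symm_apply, hEX, hδN, add_zero]), hA.inv hyX, hEX, map_sub (dl O v w μ),
      hδN, hyX, map_add A, map_sub A, map_sub A, hA.sq, map_zero,
      hA.ker (dl O v w μ (A (vecMulVec c v))) fun m hm => hB _ (hA.mem _) m hm]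
    abel
  have hδv : ∀ X, cv O v (dl O v w μ X) = 0 := fun X => by simp [dl_apply, cv_pure, hvv, hwv]
  set L := (Col (ι := ι) v).map (y * E * y⁻¹ * E⁻¹).toLinearMap
  have hLm : Mem G L := mem_map O (mem_col_self O hv)
    (mul_mem (mul_mem (mul_mem hy hE) (inv_mem hy)) (inv_mem hE))
  obtain ⟨u', hu'⟩ : ∃ u', L = Col u' := by
    by_contra hc
    push Not at hc
    refine hF L hLm hc v hv ?_
    have h0 : rank O L v = 0 := (rank_eq_zero O).2 fun X hX => by
      obtain ⟨Y, hY, rfl⟩ := hX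
      obtain ⟨c, rfl⟩ := mem_col.1 hY
      show cv O v ((y * E * y⁻¹ * E⁻¹) (vecMulVec c v)) = 0
      rw [hcalc, map_sub, hδv, cv_pure, hvv, zero_smul, sub_zero]
    rw [h0]
    have := O.two
    omega
  -- dual vectors
  obtain ⟨x₁, hx₁v, hx₁w⟩ : ∃ x, f2 v x = 0 ∧ f2 w x = 1 := by
    obtain ⟨x, hx, hxw⟩ := O.h2.exists_perp_ne hv hw
    refine ⟨(f2 w x)⁻¹ • x, by rw [O.h2.smul_right, O.h2.symm0 hx, mul_zero], ?_⟩
    rw [O.h2.smul_right, inv_mul_cancel₀ hxw]
  obtain ⟨z, hz⟩ := O.h2.exists_right hv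
  set x₂ := z - f2 w z • x₁ with hx₂
  have hx₂v : f2 v x₂ = 1 := by rw [hx₂, O.h2.sub_right, O.h2.smul_right, hx₁v, mul_zero, sub_zero, hz]
  have hx₂w : f2 w x₂ = 0 := by
    rw [hx₂, O.h2.sub_right, O.h2.smul_right, hx₁w, mul_one, sub_self]
  have heq : ∀ c, ∃ d,
      -cv O v (A (vecMulVec c v)) = f2 u' x₁ • d ∧
      c - cv O w (A (vecMulVec c v)) - μ • cv O v (A (vecMulVec c v)) = f2 u' x₂ • d := fun c => by
    have hmem : vecMulVec c v - dl O v w μ (A (vecMulVec c v)) ∈ Col u' := by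
      rw [← hu', ← hcalc]
      exact ⟨_, mem_col.2 ⟨c, rfl⟩, rfl⟩
    obtain ⟨d, hd⟩ := mem_col.1 hmem
    refine ⟨d, ?_, ?_⟩
    · have := congrArg (cv O x₁) hd
      rw [cv_pure] at this
      rw [this, dl_apply]
      simp [cv_pure, hx₁v, hx₁w]
    · have := congrArg (cv O x₂) hd
      rw [cv_pure] at this
      rw [this, dl_apply]
      simp [cv_pure, hx₂v, hx₂w]
      abel
  have hα : f2 u' x₁ ≠ 0 := fun e => by
    have := O.two
    obtain ⟨i⟩ : Nonempty ι := Fintype.card_pos_iff.1 (by omega)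
    obtain ⟨d, h1, -⟩ := heq (Pi.single i 1)
    rw [e, zero_smul, neg_eq_zero] at h1
    have := tr_injective O hF hM hnp hA hv (full_injective O hF hM hnp hv (hA.mem _) h1)
    simp at this
  refine ⟨μ - f2 u' x₂ / f2 u' x₁, fun c => ?_⟩
  obtain ⟨d, h1, h2⟩ := heq c
  rw [cv_add_vec, cv_smul_vec]
  have h3 : (f2 u' x₂ / f2 u' x₁) • cv O v (A (vecMulVec c v)) = -(f2 u' x₂ • d) := by
    rw [← neg_neg (cv O v (A (vecMulVec c v))), h1, smul_neg, smul_smul, div_mul_cancel₀ _ hα]
  rw [sub_smul, h3, ← h2]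
  abel

/-- The case of full pairing leads to a contradiction. -/
theorem full_false (hF : Full G O) {M : Submodule F MV} (hM : Mem G M) (hnp : NP M)
    {v w : κ → F} {μ : F} (hv : v ≠ 0) (hwv : f2 w v = 0)
    (hw : w ∉ F ∙ v) (hB : ∀ X ∈ M, ∀ Y ∈ M, f (dl O v w μ X) Y = 0) : False := by
  obtain ⟨A, hA⟩ := exists_tr O hM
  have hA1 : Tr f G M A := by simpa using hA 1 one_ne_zero
  obtain ⟨δ, hδ⟩ := pureThree O hF hM hnp hA1 hv hwv hw hB
  have := O.two
  obtain ⟨i⟩ : Nonempty ι := Fintype.card_pos_iff.1 (by omega)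
  have hc₀ : (Pi.single i 1 : ι → F) ≠ 0 := by simp
  have hne : ∀ a b : F, a ≠ 0 → a • w + b • v ≠ 0 := fun a b ha e => hw (by
    refine Submodule.mem_span_singleton.2 ⟨-(b / a), ?_⟩
    rw [eq_neg_of_add_eq_zero_right e |> fun h : b • v = -(a • w) => show -(b / a) • v = w by
      rw [neg_smul, div_eq_inv_mul, mul_smul, h, smul_neg, smul_smul, inv_mul_cancel₀ ha, one_smul, neg_neg]])
  by_cases hq : ∃ t : F, t ≠ 0 ∧ t ≠ 1
  · obtain ⟨t, ht0, ht1⟩ := hq
    obtain ⟨δ', hδ'⟩ := pureThree O hF hM hnp (hA t ht0) hv hwv hw hB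
    have e : (w + δ' • v) - t⁻¹ • (w + δ • v) = (1 - t⁻¹) • w + (δ' - t⁻¹ * δ) • v := by module
    have h1 := hne (1 - t⁻¹) (δ' - t⁻¹ * δ)
      (sub_ne_zero.2 fun h => ht1 (by rw [← inv_inv t, ← h, inv_one]))
    rw [← e] at h1
    have hz := hδ' (Pi.single i 1)
    rw [LinearMap.smul_apply, map_smul] at hz
    refine hc₀ (tr_injective O hF hM hnp hA1 hv
      (full_injective O hF hM hnp h1 (hA1.mem _) ?_))
    rw [cv_sub_vec, cv_smul_vec, hδ, sub_eq_zero]
    calc cv O (w + δ' • v) (A (vecMulVec (Pi.single i 1) v))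
        = t⁻¹ • (t • cv O (w + δ' • v) (A (vecMulVec (Pi.single i 1) v))) := (inv_smul_smul₀ ht0 _).symm
      _ = t⁻¹ • Pi.single i 1 := by rw [hz]
  push Not at hq
  have h2 : (2 : F) = 0 := by
    have := hq (-1) (neg_ne_zero.2 one_ne_zero)
    linear_combination -this
  have hneg : ∀ {U : Type _} [AddCommGroup U] [Module F U] (x : U), x + x = 0 := fun {U} _ _ x => by
    rw [← two_smul F, h2, zero_smul]
  set u := w + δ • v with hu
  have huv : f2 u v = 0 := by rw [hu, O.h2.add_left, O.h2.smul_left, hwv, O.h2.self, mul_zero, add_zero]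
  have hunv : u ∉ F ∙ v := fun h => hw (by
    have := Submodule.sub_mem _ h (Submodule.smul_mem _ δ (Submodule.mem_span_singleton_self v))
    rwa [hu, add_sub_cancel_right] at this)
  have hu0 : u ≠ 0 := fun e => hunv (by rw [e]; exact zero_mem _)
  -- the parameter
  have hμ0 : μ = 0 := by
    have hcv : ∀ X, cv O u X = cv O w X + δ • cv O v X := fun X => by rw [hu, cv_add_vec, cv_smul_vec]
    obtain ⟨d, hd⟩ : ∃ d, f1 (cv O v (A (vecMulVec d v)))
        (cv O v (A (vecMulVec (Pi.single i 1) v))) ≠ 0 := by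
      by_contra hc
      push Not at hc
      refine hc₀ (tr_injective O hF hM hnp hA1 hv (full_injective O hF hM hnp hv (hA1.mem _)
        (O.h1.nondeg _ fun e => O.h1.symm0 ?_)))
      have hsurj : Function.Surjective fun d => cv O v (A (vecMulVec d v)) :=
        LinearMap.surjective_of_injective (f := cv O v ∘ₗ A ∘ₗ colMap v)
          ((injective_iff_map_eq_zero (cv O v ∘ₗ A ∘ₗ colMap v)).2 fun d hd =>
            tr_injective O hF hM hnp hA1 hv (full_injective O hF hM hnp hv (hA1.mem _) hd))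
      obtain ⟨d, rfl⟩ := hsurj e
      exact hc d
    have hs := hA1.skew (vecMulVec (Pi.single i 1) v) (vecMulVec d v)
    rw [f_cv O, f_cv' O] at hs
    have hb := hB _ (hA1.mem (vecMulVec (Pi.single i 1) v)) _ (hA1.mem (vecMulVec d v))
    rw [f_dl O] at hb
    have ew : ∀ X, cv O w X = cv O u X - δ • cv O v X := fun X => by rw [hcv, add_sub_cancel_right]
    rw [ew, ew, hu, hδ, hδ, O.h1.sub_right, O.h1.sub_left, O.h1.smul_right, O.h1.smul_left,
      O.h1.swap (cv O v (A (vecMulVec (Pi.single i 1) v))) d] at hb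
    refine (mul_eq_zero.1 (?_ : μ * f1 (cv O v (A (vecMulVec d v)))
      (cv O v (A (vecMulVec (Pi.single i 1) v))) = 0)).resolve_right hd
    linear_combination hb + hs + δ * f1 (cv O v (A (vecMulVec d v)))
      (cv O v (A (vecMulVec (Pi.single i 1) v))) * h2 - f1 (cv O v (A (vecMulVec d v))) (Pi.single i 1) * h2
  -- the adjoint relation
  have hadj : ∀ c, cv O v (A (vecMulVec c u)) = c := fun c => O.h1.ext_left fun d => by
    rw [← f_cv O, hA1.skew, f_cv' O, hu, hδ, ← O.h1.swap]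
  -- the second pair
  set v' := v + u with hv'
  have huv' : f2 u v' = 0 := by rw [hv', O.h2.add_right, huv, O.h2.self, add_zero]
  have hv'0 : v' ≠ 0 := fun e => hunv (Submodule.mem_span_singleton.2 ⟨-1, by
    rw [neg_one_smul]; exact neg_eq_of_add_eq_zero_right e⟩)
  have hunv' : u ∉ F ∙ v' := fun h => by
    obtain ⟨t, ht⟩ := Submodule.mem_span_singleton.1 h
    rw [hv', smul_add] at ht
    have : t • v = (1 - t) • u := by rw [sub_smul, one_smul, eq_sub_iff_add_eq]; exact ht
    rcases eq_or_ne t 1 with rfl | ht1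
    · rw [sub_self, zero_smul, one_smul] at this
      exact hv this
    · refine hunv (Submodule.mem_span_singleton.2 ⟨(1 - t)⁻¹ * t, ?_⟩)
      rw [mul_smul, this, smul_smul, inv_mul_cancel₀ (sub_ne_zero.2 (Ne.symm ht1)), one_smul]
  have hsame : ∀ X, dl O v' u 0 X = dl O v w μ X := fun X => by
    rw [dl_apply, dl_apply, hv', cv_add_vec, hu, cv_add_vec, cv_smul_vec, hμ0]
    simp only [add_vecMulVec, vecMulVec_add, smul_vecMulVec, vmv_smul, zero_smul, add_zero, smul_add,
      hneg, zero_add]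
    match_scalars <;> grind
  obtain ⟨δ', hδ'⟩ := pureThree O hF hM hnp hA1 hv'0 huv' hunv' (μ := 0)
    (fun X hX Y hY => by rw [hsame]; exact hB X hX Y hY)
  have hz := hδ' (Pi.single i 1)
  rw [hv', vecMulVec_add, map_add A, map_add] at hz
  rcases eq_or_ne δ' 0 with rfl | hd0
  · rw [zero_smul, add_zero, hu, hδ, ← hu, add_eq_left] at hz
    have h0 := full_injective O hF hM hnp hu0 (hA1.mem _) hz
    have h := hadj (Pi.single i 1)
    rw [h0, map_zero] at h
    exact hc₀ h.symm
  · rw [hq δ' hd0, one_smul, add_left_comm, hneg, add_zero, hadj] at hz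
    refine hc₀ (tr_injective O hF hM hnp hA1 hv (full_injective O hF hM hnp hv (hA1.mem _) ?_))
    exact add_eq_right.1 hz

/-- A member that is not pure gives an element of the radical that is not pure. -/
theorem ex_of_np [Fintype F] {M : Submodule F MV} (hM : Mem G M) (hnp : NP M) : Ex f2 G := by
  by_contra hex
  suffices hall : ∀ r, ∀ L, Mem G L → NP L → ∀ v, v ≠ 0 → rank O L v ≠ r by
    obtain ⟨v, hv⟩ : ∃ v : κ → F, v ≠ 0 := by
      have := O.six
      obtain ⟨j⟩ : Nonempty κ := Fintype.card_pos_iff.1 (by omega)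
      exact ⟨Pi.single j 1, by simp⟩
    exact hall _ M hM hnp v hv rfl
  intro r
  induction r using Nat.strong_induction_on with
  | _ r ih =>
  have ih' : ∀ L, Mem G L → NP L → ∀ v, v ≠ 0 → ¬ rank O L v < r :=
    fun L hL hn v hv h => ih _ h L hL hn v hv rfl
  clear ih M hM hnp
  intro M hM hnp v hv hr
  have hvv : f2 v v = 0 := O.h2.self v
  obtain ⟨A, hA⟩ := exists_tr_one O hM
  rcases Nat.eq_zero_or_pos r with rfl | hr0
  · refine hex (stab O hnp hM hA hv fun c => ?_)
    rw [hA.ker _ fun m hm => (f_comm O _ _).trans (perp_col O ((rank_eq_zero O).1 hr m hm) (mem_col.2 ⟨c, rfl⟩))]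
    exact zero_mem _
  -- make the pair perfect
  obtain ⟨M, hM, hnp, hr, hperf⟩ : ∃ M, Mem G M ∧ NP M ∧ rank O M v = r ∧
      ∀ X ∈ M, cv O v X = 0 → X ∈ Col v := by
    have hle : r ≤ Fintype.card ι := by have := rank_add_ker O hM v; omega
    rcases hle.lt_or_eq with hlt | he
    · obtain ⟨N, hNle, hNperp, hNdim⟩ := exists_perp_part O M hv
      rw [hr] at hNdim
      obtain ⟨y, hy, hyX⟩ := hA.elem
      by_cases hN : ∀ c, A (vecMulVec c v) ∈ Col v
      · exact absurd (stab O hnp hM hA hv hN) hex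
      push Not at hN
      obtain ⟨c, hc⟩ := hN
      set M' := (Col (ι := ι) v).map y.toLinearMap with hM'
      have hM'm : Mem G M' := mem_map O (mem_col_self O hv) hy
      have hNM' : N ≤ M' := fun n hn => ⟨n, hNle hn, by
        show y n = n
        rw [hyX, hA.ker n fun m hm => (f_comm O _ _).trans (hNperp m hm n hn), add_zero]⟩
      have hNk : N ≤ M' ⊓ LinearMap.ker (cv O v) := le_inf hNM' fun n hn =>
        LinearMap.mem_ker.2 (cv_col O hvv (hNle hn))
      obtain ⟨n, hn, hn0⟩ := (Submodule.ne_bot_iff N).1 fun e => by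
        rw [e, finrank_bot] at hNdim
        omega
      have hnp' : NP M' := np_of_meet O (fun e => hc ?_) hn0 (hNM' hn) (hNle hn)
      · have h1 := rank_add_ker O hM'm v
        have h2 := Submodule.finrank_mono hNk
        have h3 := ih' M' hM'm hnp' v hv
        refine ⟨M', hM'm, hnp', by omega, fun X hX hXv => ?_⟩
        have e := Submodule.eq_of_le_of_finrank_le hNk (by omega)
        exact hNle (e.ge ⟨hX, LinearMap.mem_ker.2 hXv⟩)
      · have h1 : y (vecMulVec c v) ∈ Col v := e ▸ ⟨_, mem_col.2 ⟨c, rfl⟩, rfl⟩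
        rw [hyX] at h1
        have := (Col v).sub_mem h1 (mem_col.2 ⟨c, rfl⟩)
        rwa [add_sub_cancel_left] at this
    · refine ⟨M, hM, hnp, hr, fun X hX hXv => ?_⟩
      have h2 := rank_add_ker O hM v
      have h3 : (M ⊓ LinearMap.ker (cv O v) : Submodule F MV) = ⊥ :=
        Submodule.finrank_eq_zero.1 (by omega)
      rw [(Submodule.eq_bot_iff _).1 h3 X ⟨hX, LinearMap.mem_ker.2 hXv⟩]
      exact zero_mem _
  clear A hA
  obtain ⟨g, hg, v', hv'0, hgM⟩ := id hM
  have hv'v' : f2 v' v' = 0 := O.h2.self v'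
  have hker := rank_add_ker O hM v
  rw [hr] at hker
  have hle : r ≤ Fintype.card ι := by omega
  -- coordinates
  obtain ⟨Z, hZv, hZ0, hZdim⟩ := exists_compl O hv
  let bz := Module.finBasis F Z
  let bI := (Module.finBasis F (M.map (cv O v))).reindex
    (finCongr (show finrank F (M.map (cv O v)) = r from hr))
  have hpre : ∀ i, ∃ X ∈ M, cv O v X = (bI i : ι → F) := fun i => Submodule.mem_map.1 (bI i).2
  choose zs hzs hzsv using hpre
  let wv : Fin (finrank F Z) ⊕ Unit → (κ → F) := Sum.elim (fun p => (bz p : κ → F)) (fun _ => 0)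
  let μv : Fin (finrank F Z) ⊕ Unit → F := Sum.elim (fun _ => 0) (fun _ => 1)
  let Nv : Fin (finrank F Z) ⊕ Unit → Matrix (Fin r) (Fin r) F :=
    fun a => Matrix.of fun i j => f (dl O v (wv a) (μv a) (zs i)) (zs j)
  have hsum : ∀ x : Fin (finrank F Z) ⊕ Unit → F, ∀ X,
      dl O v (∑ a, x a • wv a) (∑ a, x a * μv a) X = ∑ a, x a • dl O v (wv a) (μv a) X := by
    intro x X
    have hcv : ∀ s : Finset (Fin (finrank F Z) ⊕ Unit),
        cv O (∑ a ∈ s, x a • wv a) X = ∑ a ∈ s, x a • cv O (wv a) X := fun s => by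
      classical
      induction s using Finset.induction with
      | empty => rw [Finset.sum_empty, Finset.sum_empty, cv_zero_vec]
      | insert a s ha ihs => rw [Finset.sum_insert ha, Finset.sum_insert ha, cv_add_vec, cv_smul_vec, ihs]
    have e1 : vecMulVec (cv O v X) (∑ a, x a • wv a) = ∑ a, x a • vecMulVec (cv O v X) (wv a) := by
      rw [vmv_sum]
      exact Finset.sum_congr rfl fun a _ => vmv_smul _ _ _
    have e2 : vecMulVec (∑ a, x a • cv O (wv a) X) v = ∑ a, x a • vecMulVec (cv O (wv a) X) v := by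
      show colMap v _ = _
      rw [map_sum]
      exact Finset.sum_congr rfl fun a _ => map_smul _ _ _
    rw [dl_apply, hcv, e1, e2, Finset.sum_smul, ← Finset.sum_add_distrib, ← Finset.sum_add_distrib]
    refine Finset.sum_congr rfl fun a _ => ?_
    rw [dl_apply, smul_add, smul_add, mul_smul]
  have hNval : ∀ x : Fin (finrank F Z) ⊕ Unit → F, ∀ i j,
      (∑ a, x a • Nv a) i j
        = f (dl O v (∑ a, x a • wv a) (∑ a, x a * μv a) (zs i)) (zs j) := by
    intro x i j
    rw [hsum x, fsuml O, Matrix.sum_apply]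
    refine Finset.sum_congr rfl fun a _ => ?_
    rw [O.f_smul, Matrix.smul_apply, smul_eq_mul]
    rfl
  have hne : Nonempty (Fin r) := ⟨⟨0, hr0⟩⟩
  obtain ⟨x, hx0, hxdet⟩ := exists_det_zero hne Nv (by
    simp only [Fintype.card_fin, Fintype.card_sum, Fintype.card_unit]
    have := O.lt
    omega)
  set w := ∑ a, x a • wv a with hwdef
  set μ := ∑ a, x a * μv a with hμdef
  have hwZ : w ∈ Z := Submodule.sum_mem _ fun a _ => Submodule.smul_mem _ _ (by
    rcases a with p | u
    · exact (bz p).2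
    · exact zero_mem _)
  have hwv := hZv w hwZ
  have hwμ : w = 0 → μ ≠ 0 := fun hw0 hμ0 => hx0 (by
    have hwe : w = ∑ i, x (Sum.inl i) • (bz i : κ → F) := by
      rw [hwdef, Fintype.sum_sum_type]
      simp only [wv, Sum.elim_inl, Sum.elim_inr, smul_zero, Finset.sum_const_zero, add_zero]
    have hli : LinearIndependent F (fun i => (bz i : κ → F)) :=
      bz.linearIndependent.map' Z.subtype (Submodule.ker_subtype Z)
    have h0 := Fintype.linearIndependent_iff.1 hli _ (hwe ▸ hw0)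
    funext a
    rcases a with i | u
    · exact h0 i
    · rw [hμdef, Fintype.sum_sum_type] at hμ0
      simpa [μv] using hμ0)
  -- a vector of the kernel
  obtain ⟨a, ha0, ha⟩ := Matrix.exists_vecMul_eq_zero_iff.2 hxdet
  set z := ∑ i, a i • zs i with hzdef
  have hzM : z ∈ M := M.sum_mem fun i _ => M.smul_mem _ (hzs i)
  have hzv : cv O v z ≠ 0 := fun e => ha0 (by
    have hli : LinearIndependent F (fun i => (bI i : ι → F)) :=
      bI.linearIndependent.map' _ (Submodule.ker_subtype _)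
    refine funext (Fintype.linearIndependent_iff.1 hli a ?_)
    rw [← e, hzdef, map_sum]
    exact Finset.sum_congr rfl fun i _ => by rw [map_smul, hzsv])
  obtain ⟨E, hE, hEX, -⟩ := eich O μ hwv
  have hδv : ∀ X, cv O v (dl O v w μ X) = 0 := fun X => by simp [dl_apply, cv_pure, hvv, hwv]
  have hδN : ∀ X ∈ Col (ι := ι) v, dl O v w μ X = 0 := fun X hX => by
    rw [dl_apply, cv_col O hvv hX, cv_col O (O.h2.symm0 hwv) hX, zero_vecMulVec, zero_vecMulVec,
      smul_zero, add_zero, add_zero]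
  have hzB : ∀ Y ∈ M, f (dl O v w μ z) Y = 0 := by
    intro Y hY
    have hspan : cv O v Y ∈ M.map (cv O v) := Submodule.mem_map_of_mem hY
    set cf := bI.repr ⟨_, hspan⟩
    have hY' : cv O v (Y - ∑ j, cf j • zs j) = 0 := by
      rw [map_sub, map_sum, sub_eq_zero]
      have := congrArg Subtype.val (bI.sum_repr ⟨_, hspan⟩)
      rw [AddSubmonoidClass.coe_finsetSum] at this
      refine this.symm.trans (Finset.sum_congr rfl fun j _ => ?_)
      rw [map_smul, hzsv]
      rfl
    have hK := hperf _ (M.sub_mem hY (M.sum_mem fun j _ => M.smul_mem _ (hzs j))) hY'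
    rw [← sub_add_cancel Y (∑ j, cf j • zs j), f_addr O, perp_col O (hδv z) hK, zero_add,
      fsumr O]
    refine Finset.sum_eq_zero fun j _ => ?_
    rw [fsr O]
    have hj := congrFun ha j
    simp only [Matrix.vecMul, dotProduct, Pi.zero_apply, hNval x] at hj
    have : f (dl O v w μ z) (zs j) = 0 := by
      rw [← hj, hzdef, map_sum, fsuml O]
      refine Finset.sum_congr rfl fun i _ => ?_
      rw [map_smul, O.f_smul]
    rw [this, mul_zero]
  -- the new member
  set M'' := (M.map E.toLinearMap).map (g⁻¹ : MV ≃ₗ[F] MV).toLinearMap with hM''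
  have hM''m : Mem G M'' := mem_map O (mem_map O hM hE) (inv_mem hg)
  have hk : ∀ m ∈ M, (∀ Y ∈ M, f (dl O v w μ m) Y = 0) → cv O v' (g.symm (E m)) = 0 := fun m hm hB =>
    cv_eq_zero O fun d => by
      have hd : g (vecMulVec d v') ∈ M := by rw [hgM]; exact ⟨_, mem_col.2 ⟨d, rfl⟩, rfl⟩
      rw [isom_symm O hg, hEX, O.f_add, mem_singular O hM hm hd, hB _ hd, add_zero]
  have hlt : rank O M'' v' < r := by
    have h1 := rank_add_ker O hM''m v'
    have hzK : z ∉ M ⊓ LinearMap.ker (cv O v) := fun h => hzv (LinearMap.mem_ker.1 h.2)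
    have h2 : finrank F (M ⊓ LinearMap.ker (cv O v) : Submodule F MV)
        < finrank F ((M ⊓ LinearMap.ker (cv O v)) ⊔ F ∙ z : Submodule F MV) :=
      Submodule.finrank_lt_finrank_of_lt (lt_of_le_of_ne le_sup_left fun e =>
        hzK (e ▸ Submodule.mem_sup_right (Submodule.mem_span_singleton_self z)))
    have h3 : ((M ⊓ LinearMap.ker (cv O v)) ⊔ F ∙ z).map (E.trans g.symm).toLinearMap
        ≤ M'' ⊓ LinearMap.ker (cv O v') := by
      rintro _ ⟨X, hX, rfl⟩
      obtain ⟨X₁, hX₁, X₂, hX₂, rfl⟩ := Submodule.mem_sup.1 hX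
      obtain ⟨t, rfl⟩ := Submodule.mem_span_singleton.1 hX₂
      have hXM : X₁ + t • z ∈ M := M.add_mem hX₁.1 (M.smul_mem t hzM)
      refine ⟨⟨_, ⟨_, hXM, rfl⟩, rfl⟩, LinearMap.mem_ker.2 (hk _ hXM fun Y hY => ?_)⟩
      rw [map_add, map_smul, hδN _ (hperf _ hX₁.1 (LinearMap.mem_ker.1 hX₁.2)), zero_add, O.f_smul,
        hzB Y hY, mul_zero]
    have h4 := Submodule.finrank_mono h3
    rw [LinearEquiv.finrank_map_eq] at h4
    omega
  by_cases hEM : M.map E.toLinearMap = M
  · have hδM : ∀ m ∈ M, dl O v w μ m ∈ M := fun m hm => by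
      have h1 : E m ∈ M := hEM ▸ Submodule.mem_map_of_mem hm
      rw [← add_sub_cancel_left m (dl O v w μ m), ← hEX]
      exact M.sub_mem h1 hm
    obtain ⟨m₁, hm₁, hm₁v⟩ : ∃ m ∈ M, cv O v m ≠ 0 := ⟨z, hzM, hzv⟩
    by_cases hw0 : w = 0
    · have hμ0 := hwμ hw0
      have hδ : ∀ X, dl O v w μ X = μ • vecMulVec (cv O v X) v := fun X => by
        rw [dl_apply, hw0, cv_zero_vec, vmv_zero, zero_vecMulVec, add_zero, zero_add]
      rcases hle.lt_or_eq with hlt' | he
      · have hnp3 : NP ((Col (ι := ι) v).map (g⁻¹ : MV ≃ₗ[F] MV).toLinearMap) := fun x hx => by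
          have hL : ∀ c, ∃ d, g (vecMulVec d x) = vecMulVec c v := fun c => by
            obtain ⟨d, hd⟩ := mem_col.1 (hx ▸ Submodule.mem_map_of_mem (mem_col.2 ⟨c, rfl⟩) :
              (g⁻¹ : MV ≃ₗ[F] MV) (vecMulVec c v) ∈ Col x)
            exact ⟨d, by rw [hd]; exact g.apply_symm_apply _⟩
          have hL' : ∀ d, ∃ c, g (vecMulVec d x) = vecMulVec c v := fun d => by
            obtain ⟨Y, hY, hYe⟩ := hx.ge (mem_col.2 ⟨d, rfl⟩)
            obtain ⟨c, rfl⟩ := mem_col.1 hY
            exact ⟨c, by rw [← hYe]; exact g.apply_symm_apply _⟩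
          rw [hgM] at hm₁ hker
          obtain ⟨Y, hY, rfl⟩ := hm₁
          obtain ⟨d, rfl⟩ := mem_col.1 hY
          by_cases hxv : f2 x v' = 0
          · refine hm₁v (cv_eq_zero O fun c => ?_)
            obtain ⟨e, he⟩ := hL c
            rw [← he]
            show f (g (vecMulVec d v')) (g (vecMulVec e x)) = 0
            rw [isom O hg, O.f_pure, O.h2.symm0 hxv, mul_zero]
          · have hbot : ((Col v').map g.toLinearMap ⊓ LinearMap.ker (cv O v) : Submodule F MV) = ⊥ := by
              refine (Submodule.eq_bot_iff _).2 fun X hX => ?_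
              obtain ⟨⟨Y, hY, rfl⟩, hX2⟩ := hX
              obtain ⟨e, rfl⟩ := mem_col.1 hY
              have he0 : e = 0 := O.h1.nondeg e fun d' => by
                obtain ⟨c, hc⟩ := hL' d'
                have h1 := isom O hg (vecMulVec e v') (vecMulVec d' x)
                rw [hc, O.f_pure, f_cv O] at h1
                have h0 : cv O v (g (vecMulVec e v')) = 0 := LinearMap.mem_ker.1 hX2
                rw [h0, O.h1.zero_left] at h1
                exact (mul_eq_zero.1 h1.symm).resolve_right fun e' => hxv (O.h2.symm0 e')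
              show g (vecMulVec e v') = 0
              rw [he0, zero_vecMulVec, map_zero]
            rw [hbot, finrank_bot] at hker
            omega
        refine hex (stab O hnp3 (mem_map O (mem_col_self O hv) (inv_mem hg))
          (tr_of O (inv_mem hg) hv hμ0) hv'0 fun c => ?_)
        have hgc : g (vecMulVec c v') ∈ M := hgM ▸ Submodule.mem_map_of_mem (mem_col.2 ⟨c, rfl⟩)
        have h1 := hδM _ hgc
        rw [hδ, hgM] at h1
        obtain ⟨Y, hY, hYe⟩ := h1
        show μ • g.symm (vecMulVec (cv O v (g (vecMulVec c v'))) v) ∈ Col v'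
        rw [← map_smul, ← hYe]
        show g.symm (g Y) ∈ _
        rwa [g.symm_apply_apply]
      · have h3 : (M ⊓ LinearMap.ker (cv O v) : Submodule F MV) = ⊥ :=
          Submodule.finrank_eq_zero.1 (by omega)
        have := (Submodule.eq_bot_iff _).1 h3 _ ⟨hδM _ hm₁, LinearMap.mem_ker.2 (hδv _)⟩
        rw [hδ, smul_eq_zero, vmv_eq_zero] at this
        exact (this.resolve_left hμ0).elim hm₁v hv
    · have hwnv : w ∉ F ∙ v := fun h => hw0 (hZ0 w hwZ h)
      obtain ⟨x', hx', hxw⟩ : ∃ x', f2 x' v = 0 ∧ f2 w x' ≠ 0 := by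
        by_contra hc
        push Not at hc
        exact hwnv (O.h2.perp_perp hv hc)
      have := cv_col O (O.h2.symm0 hx') (hperf _ (hδM _ hm₁) (hδv _))
      rw [dl_apply, map_add, map_add, map_smul, cv_pure, cv_pure, cv_pure, O.h2.symm0 hx'] at this
      simp [hxw, hm₁v] at this
  have hne'' : M'' ≠ Col v' := fun e => hEM (Submodule.map_injective_of_injective
    (f := (g⁻¹ : MV ≃ₗ[F] MV).toLinearMap) (g⁻¹ : MV ≃ₗ[F] MV).injective
    (e.trans (by rw [hgM, map_map_inv])))
  rcases hle.lt_or_eq with hlt' | he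
  · obtain ⟨u₀, hu₀, hu₀0⟩ := (Submodule.ne_bot_iff (M ⊓ LinearMap.ker (cv O v))).1 fun e => by
      rw [e, finrank_bot] at hker
      omega
    refine ih' M'' hM''m (np_of_meet O hne'' (X := g.symm u₀) ?_ ?_ ?_) v' hv'0 hlt
    · exact fun e => hu₀0 (g.symm.map_eq_zero_iff.1 e)
    · refine ⟨u₀, ⟨u₀, hu₀.1, ?_⟩, rfl⟩
      show E u₀ = u₀
      rw [hEX, hδN _ (hperf _ hu₀.1 (LinearMap.mem_ker.1 hu₀.2)), add_zero]
    · obtain ⟨Y, hY, hYe⟩ := hgM ▸ hu₀.1
      rw [← hYe]
      show g.symm (g Y) ∈ _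
      rwa [g.symm_apply_apply]
  subst he
  obtain ⟨x'', hx''⟩ : ∃ x'', M'' = Col x'' := by
    by_contra hc
    push Not at hc
    exact ih' M'' hM''m hc v' hv'0 hlt
  have hxv' : f2 x'' v' = 0 := by
    by_contra hc
    refine absurd hlt (not_lt.2 (le_of_eq ?_))
    have h1 := rank_add_ker O hM''m v'
    have h2 : (M'' ⊓ LinearMap.ker (cv O v') : Submodule F MV) = ⊥ :=
      (Submodule.eq_bot_iff _).2 fun X hX => by
        obtain ⟨d, rfl⟩ := mem_col.1 (hx'' ▸ hX.1)
        have := LinearMap.mem_ker.1 hX.2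
        rw [cv_pure, smul_eq_zero] at this
        rw [this.resolve_left hc, zero_vecMulVec]
    rw [h2, finrank_bot, add_zero] at h1
    exact h1.symm
  have hB : ∀ X ∈ M, ∀ Y ∈ M, f (dl O v w μ X) Y = 0 := fun X hX Y hY => by
    have h1 : g.symm (E X) ∈ Col x'' := hx'' ▸ Submodule.mem_map_of_mem (Submodule.mem_map_of_mem hX)
    rw [hgM] at hY
    obtain ⟨Y, hY', rfl⟩ := hY
    obtain ⟨d, rfl⟩ := mem_col.1 hY'
    have h2 : f (g.symm (E X)) (vecMulVec d v') = 0 := by
      obtain ⟨c, hc⟩ := mem_col.1 h1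
      rw [← hc, O.f_pure, hxv', mul_zero]
    rw [isom_symm O hg, hEX, O.f_add,
      mem_singular O hM hX (hgM ▸ Submodule.mem_map_of_mem (mem_col.2 ⟨d, rfl⟩)), zero_add] at h2
    exact h2
  have hwnv : w ∉ F ∙ v := fun h => by
    have hw0 := hZ0 w hwZ h
    have := hB z hzM
    simp only [f_dl O, hw0, cv_zero_vec, O.h1.zero_left, O.h1.zero_right, add_zero, zero_add] at this
    refine hzv (O.h1.nondeg _ fun d => ?_)
    have hsurj : M.map (cv O v) = ⊤ := Submodule.eq_top_of_finrank_eq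
      (hr.trans (Module.finrank_fintype_fun_eq_card F).symm)
    obtain ⟨m, hm, rfl⟩ := hsurj.ge (Submodule.mem_top (x := d))
    exact O.h1.symm0 ((mul_eq_zero.1 (this m hm)).resolve_left (hwμ hw0))
  exact full_false O (fun L hL hn u hu h => ih' L hL hn u hu h) hM hnp hv hwv hwnv hB

end

end CfsgLib.MaxSub.TensorSymp
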