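/-
Siegel elements of the orthogonal space in an overgroup, and the two kinds to start from.
-/
import Cfsg.Agent.Lib.MaxSub.TensorSymp.Basic

set_option autoImplicit false
set_option linter.unusedSectionVars false

namespace CfsgLib.MaxSub.TensorSymp

open Matrix Module
open CfsgLib.MaxSub.TensorLin (Col colMap colMap_apply mem_col vmv_eq_zero vmv_zero)

variable {F : Type*} [Field F]

namespace AForm

variable {U : Type*} [AddCommGroup U] [Module F U] {f : U → U → F} (H : AForm f)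
include H

/-- An additive set of perpendiculars of a vector, invariant under transvections, is everything. -/
theorem spread {v z : U} (hv : v ≠ 0) (hz : f z v = 0) (hzn : z ∉ F ∙ v) (P : U → Prop)
    (hadd : ∀ a b, f a v = 0 → f b v = 0 → P a → P b → P (a + b))
    (hneg : ∀ a, f a v = 0 → P a → P (-a))
    (htr : ∀ a p l, f a v = 0 → f p v = 0 → P a → P (a + (l * f a p) • p))
    (hP : P z) {x : U} (hx : f x v = 0) : P x := by
  have step : ∀ p, f p v = 0 → f z p ≠ 0 → P p := fun p hp hzp => by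
    have h1 := htr z p (f z p)⁻¹ hz hp hP
    rw [inv_mul_cancel₀ hzp, one_smul] at h1
    have h2 := hadd _ _ (by rw [H.add_left, hz, hp, add_zero]) (by rw [H.neg_left, hz, neg_zero]) h1
      (hneg z hz hP)
    rwa [add_comm z p, add_neg_cancel_right] at h2
  by_cases hzx : f z x = 0
  · obtain ⟨p, hp, hzp⟩ := H.exists_perp_ne hv hzn
    have h1 := hadd _ _ (by rw [H.add_left, hx, hp, add_zero]) (by rw [H.neg_left, hp, neg_zero])
      (step (x + p) (by rw [H.add_left, hx, hp, add_zero]) (by rwa [H.add_right, hzx, zero_add]))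
      (hneg p hp (step p hp hzp))
    rwa [add_neg_cancel_right] at h1
  · exact step x hx hzx

/-- A set invariant under transvections containing a non-zero vector contains all of them. -/
theorem move {v x : U} (hv : v ≠ 0) (hx : x ≠ 0) (P : U → Prop)
    (htr : ∀ a p l, P a → P (a + (l * f a p) • p)) (hP : P v) : P x := by
  have step : ∀ a b, f a b ≠ 0 → P a → P b := fun a b hab ha => by
    have h1 := htr a (b - a) (f a b)⁻¹ ha
    rwa [H.sub_right, H.self, sub_zero, inv_mul_cancel₀ hab, one_smul, add_sub_cancel] at h1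
  by_cases hvx : f v x = 0
  · obtain ⟨y₁, hy₁⟩ := H.exists_right hv
    obtain ⟨y₂, hy₂⟩ := H.exists_right hx
    obtain ⟨y, hy, hy'⟩ : ∃ y, f v y ≠ 0 ∧ f x y ≠ 0 := by
      by_cases h1 : f x y₁ = 0
      · by_cases h2 : f v y₂ = 0
        · exact ⟨y₁ + y₂, by rw [H.add_right, hy₁, h2, add_zero]; exact one_ne_zero,
            by rw [H.add_right, h1, hy₂, zero_add]; exact one_ne_zero⟩
        · exact ⟨y₂, h2, by rw [hy₂]; exact one_ne_zero⟩
      · exact ⟨y₁, by rw [hy₁]; exact one_ne_zero, h1⟩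
    exact step y x (H.symm_ne hy') (step v y hy hP)
  · exact step v x hvx hP

/-- A map with every vector an eigenvector is scalar. -/
theorem scalar_of_eigen {W : Submodule F U} {T : U →ₗ[F] U} (h : ∀ x ∈ W, T x ∈ F ∙ x) :
    ∃ s : F, ∀ x ∈ W, T x = s • x := by
  rcases eq_or_ne W ⊥ with rfl | hW
  · exact ⟨0, fun x hx => by rw [(Submodule.mem_bot F).1 hx, map_zero, smul_zero]⟩
  obtain ⟨e, he, he0⟩ := (Submodule.ne_bot_iff W).1 hW
  obtain ⟨s, hs⟩ := Submodule.mem_span_singleton.1 (h e he)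
  refine ⟨s, fun x hx => ?_⟩
  by_cases hxe : x ∈ F ∙ e
  · obtain ⟨r, rfl⟩ := Submodule.mem_span_singleton.1 hxe
    rw [map_smul, ← hs, smul_comm]
  obtain ⟨r, hr⟩ := Submodule.mem_span_singleton.1 (h x hx)
  obtain ⟨t, ht⟩ := Submodule.mem_span_singleton.1 (h (x + e) (W.add_mem hx he))
  rw [map_add, ← hr, ← hs, smul_add] at ht
  have h1 : (r - t) • x = (t - s) • e := by
    rw [sub_smul, sub_smul, sub_eq_iff_eq_add, sub_add_eq_add_sub, eq_sub_iff_add_eq, ← ht]
    abel
  by_cases hrt : r - t = 0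
  · rw [hrt, zero_smul, eq_comm, smul_eq_zero, sub_eq_zero] at h1
    rw [← hr, sub_eq_zero.1 hrt, h1.resolve_right he0]
  · exact absurd (Submodule.mem_span_singleton.2 ⟨(r - t)⁻¹ * (t - s), by
      rw [mul_smul, ← h1, smul_smul, inv_mul_cancel₀ hrt, one_smul]⟩) hxe

end AForm

variable {ι κ : Type*} [Fintype ι] [Fintype κ] [DecidableEq ι] [DecidableEq κ]
variable {f1 : (ι → F) → (ι → F) → F} {f2 : (κ → F) → (κ → F) → F} {Q : Matrix ι κ F → F}
  {f : Matrix ι κ F → Matrix ι κ F → F} {G : Subgroup (Matrix ι κ F ≃ₗ[F] Matrix ι κ F)}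

local notation "MV" => Matrix ι κ F

/-- A Siegel element with given centre and vector. -/
def InW (Q : Matrix ι κ F → F) (f : Matrix ι κ F → Matrix ι κ F → F)
    (G : Subgroup (Matrix ι κ F ≃ₗ[F] Matrix ι κ F)) (E W : Matrix ι κ F) : Prop :=
  f W E = 0 ∧ ∃ g ∈ G, ∀ X, g X = X + f X E • W - f X W • E - (Q W * f X E) • E

/-- A Siegel element of a pure tensor moving the first factor. -/
def TypeA (f1 : (ι → F) → (ι → F) → F) (Q : Matrix ι κ F → F) (f : Matrix ι κ F → Matrix ι κ F → F)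
    (G : Subgroup (Matrix ι κ F ≃ₗ[F] Matrix ι κ F)) : Prop :=
  ∃ (u c : ι → F) (v : κ → F), u ≠ 0 ∧ v ≠ 0 ∧ f1 c u = 0 ∧ c ∉ F ∙ u ∧
    InW Q f G (vecMulVec u v) (vecMulVec c v)

/-- A Siegel element of a pure tensor moving the second factor. -/
def TypeB (f2 : (κ → F) → (κ → F) → F) (Q : Matrix ι κ F → F) (f : Matrix ι κ F → Matrix ι κ F → F)
    (G : Subgroup (Matrix ι κ F ≃ₗ[F] Matrix ι κ F)) : Prop :=
  ∃ (u : ι → F) (v z : κ → F), u ≠ 0 ∧ v ≠ 0 ∧ f2 z v = 0 ∧ z ∉ F ∙ v ∧
    InW Q f G (vecMulVec u v) (vecMulVec u z)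

section

variable (O : TS f1 f2 Q f G)
include O

theorem f_self_pure (c : ι → F) (x : κ → F) : f (vecMulVec c x) (vecMulVec c x) = 0 := by
  rw [O.f_pure, O.h1.self, zero_mul]

theorem inW_zero (E : MV) : InW Q f G E 0 :=
  ⟨fzl O E, 1, one_mem G, fun X => by simp [fzr O, Q_zero O]⟩

theorem f_self {E : MV} (hE : Q E = 0) : f E E = 0 := by
  have h := O.Q_add E E
  rw [← two_smul F E, O.Q_smul, hE] at h
  linear_combination -h

theorem inW_self {E : MV} (hE : Q E = 0) (s : F) : InW Q f G E (s • E) := by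
  refine ⟨by rw [O.f_smul, f_self O hE, mul_zero], 1, one_mem G, fun X => ?_⟩
  rw [fsr O, O.Q_smul, hE, mul_zero, zero_mul, zero_smul, sub_zero]
  show X = _
  module

theorem inW_add {E W W' : MV} (hE : Q E = 0) (h : InW Q f G E W) (h' : InW Q f G E W') :
    InW Q f G E (W + W') := by
  obtain ⟨hW, g, hg, hgX⟩ := h
  obtain ⟨hW', g', hg', hgX'⟩ := h'
  refine ⟨by rw [O.f_add, hW, hW', add_zero], g * g', mul_mem hg hg', fun X => ?_⟩
  rw [LinearEquiv.mul_apply, hgX, hgX']
  simp only [O.f_add, fsubl O, O.f_smul, f_addr O, O.Q_add, hW', f_self O hE, f_comm O W E ▸ hW,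
    f_comm O W W', mul_zero, add_zero, sub_zero]
  module

theorem inW_neg {E W : MV} (hE : Q E = 0) (h : InW Q f G E W) : InW Q f G E (-W) := by
  obtain ⟨hW, g, hg, hgX⟩ := h
  refine ⟨by rw [fnl O, hW, neg_zero], g⁻¹, inv_mem hg, fun X => g.injective ?_⟩
  show g (g.symm X) = _
  rw [g.apply_symm_apply, hgX]
  have hQ : Q (-W) = Q W := by rw [← neg_one_smul F W, O.Q_smul]; ring
  have hWW : f W W = 2 * Q W := by
    have h := O.Q_add W W
    rw [← two_smul F W, O.Q_smul] at h
    linear_combination -h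
  simp only [O.f_add, fsubl O, O.f_smul, fnl O, fnr O, hQ, hW, f_self O hE, hWW,
    f_comm O W E ▸ hW, mul_zero, add_zero, sub_zero, neg_zero]
  module

theorem inW_conj {E W : MV} (h : InW Q f G E W) {e : MV ≃ₗ[F] MV} (he : e ∈ G) :
    InW Q f G (e E) (e W) := by
  obtain ⟨hW, g, hg, hgX⟩ := h
  refine ⟨by rw [isom O he, hW], e * g * e⁻¹, mul_mem (mul_mem he hg) (inv_mem he), fun X => ?_⟩
  show e (g (e.symm X)) = _
  rw [hgX, O.isomQ e he, isom_symm O he, isom_symm O he]
  simp only [map_sub, map_add, map_smul, e.apply_symm_apply]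

theorem inW_swap {E W : MV} (s : F) (hs : s ≠ 0) (h : InW Q f G E (s • W)) :
    InW Q f G (s • E) W := by
  obtain ⟨hW, g, hg, hgX⟩ := h
  rw [O.f_smul] at hW
  refine ⟨by rw [fsr O, (mul_eq_zero.1 hW).resolve_left hs, mul_zero], g, hg, fun X => ?_⟩
  rw [hgX, fsr O, fsr O, O.Q_smul]
  module

/-- The subspace of vectors all whose multiples give Siegel elements. -/
def WS {E : Matrix ι κ F} (hE : Q E = 0) : Submodule F (Matrix ι κ F) where
  carrier := {W | ∀ s : F, InW Q f G E (s • W)}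
  add_mem' {W W'} h h' s := by rw [smul_add]; exact inW_add O hE (h s) (h' s)
  zero_mem' s := by rw [smul_zero]; exact inW_zero O E
  smul_mem' t {W} h s := by rw [smul_smul]; exact h _

theorem mem_ws {E W : MV} (hE : Q E = 0) : W ∈ WS O hE ↔ ∀ s : F, InW Q f G E (s • W) := Iff.rfl

end

end CfsgLib.MaxSub.TensorSymp
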