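/-
An element of the radical that is not pure gives a Siegel element of a pure tensor moving one of the
factors, or all endomorphisms with a given pattern at one vector.
-/
import Cfsg.Agent.Lib.MaxSub.TensorSymp.Stab
import Cfsg.Agent.Lib.MaxSub.TensorSymp.Siegel

set_option autoImplicit false
set_option maxHeartbeats 400000
set_option linter.unusedSectionVars false

namespace CfsgLib.MaxSub.TensorSymp

open Matrix Module
open CfsgLib.MaxSub.TensorLin (Col colMap colMap_apply mem_col vmv_eq_zero vmv_zero exists_dot_one)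

variable {F : Type*} [Field F]

namespace AForm

variable {U : Type*} [AddCommGroup U] [Module F U] {f : U → U → F} (H : AForm f)
include H

/-- The map of rank one of a vector. -/
def kk (u : U) : U →ₗ[F] U := (H.lin u).smulRight u

theorem kk_apply (u c : U) : H.kk u c = f c u • u := rfl

/-- The map of rank two of two vectors. -/
def rr (a b : U) : U →ₗ[F] U := (H.lin a).smulRight b - (H.lin b).smulRight a

theorem rr_apply (a b c : U) : H.rr a b c = f c a • b - f c b • a := rfl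

/-- Transvections preserve the form. -/
theorem tv_isom (p : U) (l : F) (x y : U) :
    f (x + (l * f x p) • p) (y + (l * f y p) • p) = f x y := by
  simp only [H.add_left, H.add_right, H.smul_left, H.smul_right, H.self, mul_zero, add_zero]
  rw [H.swap y p]
  ring

/-- Alternating maps are self-adjoint. -/
theorem alt_adj {T : U →ₗ[F] U} (hT : ∀ x, f (T x) x = 0) (x y : U) : f (T x) y = f x (T y) := by
  have h := hT (x + y)
  rw [map_add, H.add_left, H.add_right, H.add_right, hT, hT] at h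
  rw [H.swap (T y) x]
  linear_combination h

/-- In dimension two alternating maps are scalar. -/
theorem alt_two [FiniteDimensional F U] (hU : finrank F U = 2) {T : U →ₗ[F] U}
    (hT : ∀ x, f (T x) x = 0) : ∃ s : F, ∀ x, T x = s • x := by
  obtain ⟨s, hs⟩ := H.scalar_of_eigen (W := ⊤) (T := T) fun x _ => by
    rcases eq_or_ne x 0 with rfl | hx
    · rw [map_zero]; exact zero_mem _
    refine H.perp_perp hx fun z hz => ?_
    have hzx : z ∈ F ∙ x := by
      by_contra hc
      have hli : LinearIndependent F ![x, z] := by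
        refine (LinearIndependent.pair_iff' hx).2 fun a ha => hc ?_
        exact Submodule.mem_span_singleton.2 ⟨a, ha⟩
      have htop : Submodule.span F (Set.range ![x, z]) = ⊤ :=
        hli.span_eq_top_of_card_eq_finrank (by rw [hU]; simp)
      refine hx (H.nondeg x fun y => ?_)
      obtain ⟨cf, rfl⟩ := Submodule.mem_span_range_iff_exists_fun F |>.1 (htop.ge (Submodule.mem_top (x := y)))
      rw [Fin.sum_univ_two, H.add_right, H.smul_right, H.smul_right]
      simp [H.self, H.symm0 hz]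
    obtain ⟨t, rfl⟩ := Submodule.mem_span_singleton.1 hzx
    rw [H.smul_right, hT, mul_zero]
  exact ⟨s, fun x => hs x Submodule.mem_top⟩

/-- A scalar with values in a plane is zero in dimension at least three. -/
theorem scalar_zero [FiniteDimensional F U] (hU : 3 ≤ finrank F U) {r : F} {p q : U}
    (h : ∀ x, r • x ∈ Submodule.span F (Set.range ![p, q])) : r = 0 := by
  by_contra hr
  have hle : (⊤ : Submodule F U) ≤ Submodule.span F (Set.range ![p, q]) := fun x _ => by
    have := Submodule.smul_mem _ r⁻¹ (h x)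
    rwa [smul_smul, inv_mul_cancel₀ hr, one_smul] at this
  have h1 := Submodule.finrank_mono hle
  have h2 : finrank F (Submodule.span F (Set.range ![p, q])) ≤ 2 := by
    simpa [Set.finrank] using finrank_range_le_card (R := F) ![p, q]
  rw [finrank_top] at h1
  omega

end AForm

variable {ι κ : Type*} [Fintype ι] [Fintype κ] [DecidableEq ι] [DecidableEq κ]
variable {f1 : (ι → F) → (ι → F) → F} {f2 : (κ → F) → (κ → F) → F} {Q : Matrix ι κ F → F}
  {f : Matrix ι κ F → Matrix ι κ F → F} {G : Subgroup (Matrix ι κ F ≃ₗ[F] Matrix ι κ F)}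

local notation "MV" => Matrix ι κ F

section

variable (O : TS f1 f2 Q f G)
include O

/-- An element attached to a vector and an endomorphism. -/
def InG (v : κ → F) (T : (ι → F) →ₗ[F] (ι → F)) : Prop :=
  ∃ g ∈ G, ∀ X, g X = X + vecMulVec (T (cv O v X)) v

omit O in
/-- An element of the radical with given pattern. -/
def Has (f2 : (κ → F) → (κ → F) → F) (G : Subgroup (Matrix ι κ F ≃ₗ[F] Matrix ι κ F)) (v z : κ → F)
    (S : (ι → F) →ₗ[F] (ι → F)) : Prop :=
  ∃ g ∈ G, (∀ c, g (vecMulVec c v) = vecMulVec c v) ∧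
    ∀ c w, f2 w v = 0 → g (vecMulVec c w) = vecMulVec c w + vecMulVec (f2 w z • S c) v

omit O in
/-- A pattern at all perpendiculars. -/
def All (f2 : (κ → F) → (κ → F) → F) (G : Subgroup (Matrix ι κ F ≃ₗ[F] Matrix ι κ F)) (v : κ → F)
    (S : (ι → F) →ₗ[F] (ι → F)) : Prop :=
  ∀ z, f2 z v = 0 → Has f2 G v z S

/-- A map into a space of pure tensors killing its perpendicular. -/
theorem exists_rT {v z z' : κ → F} (hz : f2 v z = 1) (hz' : f2 z' v = 1) (D : MV →ₗ[F] MV)
    (hk : ∀ c x, f2 x v = 0 → D (vecMulVec c x) = 0) (hi : ∀ X, D X ∈ Col v) (X : MV) :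
    D X = vecMulVec (cv O z (D (vecMulVec (cv O v X) z'))) v := by
  have hback : ∀ Y ∈ Col (ι := ι) v, Y = vecMulVec (cv O z Y) v := fun Y hY => by
    obtain ⟨d, rfl⟩ := mem_col.1 hY
    rw [cv_pure, hz, one_smul]
  refine ext_pure (A := D) (B := colMap v ∘ₗ cv O z ∘ₗ D ∘ₗ colMap z' ∘ₗ cv O v) (fun c x => ?_) X
  show _ = vecMulVec (cv O z (D (vecMulVec (cv O v (vecMulVec c x)) z'))) v
  rw [← hback _ (hi _), cv_pure]
  have e : vecMulVec c x = vecMulVec c (x - f2 x v • z') + vecMulVec (f2 x v • c) z' := by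
    rw [vmv_sub, vmv_smul, smul_vecMulVec, sub_add_cancel]
  conv_lhs => rw [e]
  rw [map_add, hk c _ (by rw [O.h2.sub_left, O.h2.smul_left, hz', mul_one, sub_self]), zero_add]

theorem ing_scalar (v : κ → F) (s : F) : InG O v (s • LinearMap.id) := by
  obtain ⟨g, hg, hgX, -⟩ := tv O v s
  exact ⟨g, hg, fun X => by rw [hgX, LinearMap.smul_apply, LinearMap.id_apply, smul_vecMulVec]⟩

theorem ing_add {v : κ → F} {T T' : (ι → F) →ₗ[F] (ι → F)} (h : InG O v T) (h' : InG O v T') :
    InG O v (T + T') := by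
  obtain ⟨g, hg, hgX⟩ := h
  obtain ⟨g', hg', hgX'⟩ := h'
  refine ⟨g * g', mul_mem hg hg', fun X => ?_⟩
  rw [LinearEquiv.mul_apply, hgX, hgX', map_add (cv O v), cv_pure, O.h2.self, zero_smul, add_zero,
    LinearMap.add_apply, add_vecMulVec, add_assoc, add_comm (vecMulVec (T' _) v)]

theorem ing_neg {v : κ → F} {T : (ι → F) →ₗ[F] (ι → F)} (h : InG O v T) : InG O v (-T) := by
  obtain ⟨g, hg, hgX⟩ := h
  refine ⟨g⁻¹, inv_mem hg, fun X => ?_⟩
  refine g.injective ?_
  show g (g.symm X) = _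
  rw [g.apply_symm_apply, hgX, map_add (cv O v), cv_pure, O.h2.self, zero_smul, add_zero,
    LinearMap.neg_apply, neg_vmv, add_assoc, neg_add_cancel, add_zero]

/-- The endomorphism is alternating. -/
theorem ing_alt {v : κ → F} (hv : v ≠ 0) {T : (ι → F) →ₗ[F] (ι → F)} (h : InG O v T) (c : ι → F) :
    f1 (T c) c = 0 := by
  obtain ⟨g, hg, hgX⟩ := h
  obtain ⟨z, hz⟩ := O.h2.exists_left hv
  have := O.isomQ g hg (vecMulVec c z)
  rw [hgX, cv_pure, hz, one_smul, O.Q_add, O.Q_pure, O.Q_pure, O.f_pure, hz, mul_one, zero_add,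
    zero_add] at this
  exact O.h1.symm0 this

/-- Transvections of the first factor. -/
theorem left_tv (p : ι → F) (l : F) :
    ∃ e ∈ G, (∀ c x, e (vecMulVec c x) = vecMulVec (c + (l * f1 c p) • p) x) ∧
      (∀ c x, e.symm (vecMulVec c x) = vecMulVec (c - (l * f1 c p) • p) x) ∧
      ∀ x Y, cv O x (e Y) = cv O x Y + (l * f1 (cv O x Y) p) • p := by
  obtain ⟨e, he, heX⟩ := O.tvL p l
  refine ⟨e, he, heX, fun c x => e.injective ?_, fun x Y => ?_⟩
  · rw [e.apply_symm_apply, heX]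
    simp only [O.h1.sub_left, O.h1.smul_left, O.h1.self, mul_zero, sub_zero, sub_add_cancel]
  · refine ext_pure (A := cv O x ∘ₗ e.toLinearMap) (B := cv O x + (l • O.h1.kk p) ∘ₗ cv O x)
      (fun c y => ?_) Y |>.trans ?_
    · show cv O x (e (vecMulVec c y)) = cv O x (vecMulVec c y) + l • O.h1.kk p (cv O x (vecMulVec c y))
      rw [heX, cv_pure, cv_pure, AForm.kk_apply, O.h1.smul_left, smul_add, smul_smul, smul_smul]
      congr 2
      ring
    · show _ + l • (f1 (cv O x Y) p • p) = _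
      rw [smul_smul]

/-- An endomorphism that is not scalar gives a Siegel element. -/
theorem typeA_of_ing {v : κ → F} (hv : v ≠ 0) {T : (ι → F) →ₗ[F] (ι → F)} (h : InG O v T)
    (hns : ¬ ∃ s : F, ∀ c, T c = s • c) : TypeA f1 Q f G := by
  have hT := ing_alt O hv h
  obtain ⟨u, hu⟩ : ∃ u, T u ∉ F ∙ u := by
    by_contra hc
    push Not at hc
    obtain ⟨s, hs⟩ := O.h1.scalar_of_eigen (W := ⊤) fun x _ => hc x
    exact hns ⟨s, fun c => hs c Submodule.mem_top⟩
  set y := T u with hy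
  obtain ⟨g, hg, hgX⟩ := h
  obtain ⟨e, he, heX, -, hec⟩ := left_tv O u 1
  have hyu : f1 y u = 0 := hT u
  have hyn : y ≠ 0 := fun e => hu (by rw [e]; exact zero_mem _)
  have huy : u ∉ F ∙ y := fun hm => by
    obtain ⟨t, ht⟩ := Submodule.mem_span_singleton.1 hm
    have ht0 : t ≠ 0 := fun e => by
      rw [e, zero_smul] at ht
      rw [hy, ← ht, map_zero] at hyn
      exact hyn rfl
    refine hu (Submodule.mem_span_singleton.2 ⟨t⁻¹, ?_⟩)
    rw [← ht, smul_smul, inv_mul_cancel₀ ht0, one_smul]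
  have huc : f1 u y = 0 := O.h1.symm0 hyu
  refine ⟨y, u, v, hyn, hv, huc, huy, by rw [O.f_pure, huc, zero_mul], g⁻¹ * (e * g * e⁻¹),
    mul_mem (inv_mem hg) (mul_mem (mul_mem he hg) (inv_mem he)), fun X => g.injective ?_⟩
  show g (g.symm (e (g (e.symm X)))) = _
  rw [g.apply_symm_apply, O.Q_pure, zero_mul, zero_smul, sub_zero, hgX, map_add, e.apply_symm_apply, heX,
    f_cv O, f_cv O]
  set c := cv O v (e.symm X) with hc
  have e1 : cv O v X = c + f1 c u • u := by
    conv_lhs => rw [← e.apply_symm_apply X, hec, ← hc, one_mul]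
  rw [hgX, map_sub (cv O v), map_add (cv O v), map_smul (cv O v), map_smul (cv O v), cv_pure, cv_pure,
    O.h2.self, zero_smul, zero_smul, smul_zero, smul_zero, add_zero, sub_zero, e1]
  simp only [map_add, map_smul, ← hy, O.h1.add_left, O.h1.smul_left, O.h1.self, huc, mul_zero, add_zero,
    one_mul, O.h1.alt_adj hT c u, add_vecMulVec, smul_vecMulVec]
  module

theorem has_self (v : κ → F) (S : (ι → F) →ₗ[F] (ι → F)) (z : κ → F) (hz : z ∈ F ∙ v) : Has f2 G v z S :=
  ⟨1, one_mem G, fun _ => rfl, fun c w hw => by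
    obtain ⟨t, rfl⟩ := Submodule.mem_span_singleton.1 hz
    rw [O.h2.smul_right, hw, mul_zero, zero_smul, zero_vecMulVec, add_zero]
    rfl⟩

theorem has_addz {v z z' : κ → F} {S : (ι → F) →ₗ[F] (ι → F)} (h : Has f2 G v z S) (h' : Has f2 G v z' S) :
    Has f2 G v (z + z') S := by
  obtain ⟨g, hg, h1, h2⟩ := h
  obtain ⟨g', hg', h1', h2'⟩ := h'
  refine ⟨g * g', mul_mem hg hg', fun c => by rw [LinearEquiv.mul_apply, h1', h1], fun c w hw => ?_⟩
  rw [LinearEquiv.mul_apply, h2' c w hw, map_add, h2 c w hw, h1, O.h2.add_right, add_smul,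
    add_vecMulVec, add_assoc]

theorem has_add {v z : κ → F} {S S' : (ι → F) →ₗ[F] (ι → F)} (h : Has f2 G v z S) (h' : Has f2 G v z S') :
    Has f2 G v z (S + S') := by
  obtain ⟨g, hg, h1, h2⟩ := h
  obtain ⟨g', hg', h1', h2'⟩ := h'
  refine ⟨g * g', mul_mem hg hg', fun c => by rw [LinearEquiv.mul_apply, h1', h1], fun c w hw => ?_⟩
  rw [LinearEquiv.mul_apply, h2' c w hw, map_add, h2 c w hw, h1, LinearMap.add_apply, smul_add,
    add_vecMulVec, add_assoc]

theorem has_neg {v z : κ → F} {S : (ι → F) →ₗ[F] (ι → F)} (h : Has f2 G v z S) :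
    Has f2 G v z (-S) ∧ Has f2 G v (-z) S := by
  obtain ⟨g, hg, h1, h2⟩ := h
  have key : ∀ c w, f2 w v = 0 → g.symm (vecMulVec c w) = vecMulVec c w + vecMulVec (-(f2 w z • S c)) v :=
    fun c w hw => g.injective (by
      rw [g.apply_symm_apply, map_add, h1, h2 c w hw, neg_vmv, add_neg_cancel_right])
  have key' : ∀ c, g.symm (vecMulVec c v) = vecMulVec c v := fun c => g.injective (by
    rw [g.apply_symm_apply, h1])
  exact ⟨⟨g⁻¹, inv_mem hg, key', fun c w hw => by
      show g.symm _ = _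
      rw [key c w hw, LinearMap.neg_apply, smul_neg]⟩,
    ⟨g⁻¹, inv_mem hg, key', fun c w hw => by
      show g.symm _ = _
      rw [key c w hw, O.h2.neg_right, neg_smul]⟩⟩

theorem all_add {v : κ → F} {S S' : (ι → F) →ₗ[F] (ι → F)} (h : All f2 G v S) (h' : All f2 G v S') :
    All f2 G v (S + S') := fun z hz => has_add O (h z hz) (h' z hz)

theorem all_neg {v : κ → F} {S : (ι → F) →ₗ[F] (ι → F)} (h : All f2 G v S) :
    All f2 G v (-S) := fun z hz => (has_neg O (h z hz)).1

theorem all_smul {v : κ → F} {S : (ι → F) →ₗ[F] (ι → F)} (h : All f2 G v S) (t : F) :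
    All f2 G v (t • S) := fun z hz => by
  obtain ⟨g, hg, h1, h2⟩ := h (t • z) (by rw [O.h2.smul_left, hz, mul_zero])
  refine ⟨g, hg, h1, fun c w hw => ?_⟩
  rw [h2 c w hw, O.h2.smul_right, LinearMap.smul_apply, smul_smul, mul_comm]

/-- One perpendicular suffices. -/
theorem all_of_has {v z : κ → F} (hv : v ≠ 0) (hz : f2 z v = 0) (hzn : z ∉ F ∙ v)
    {S : (ι → F) →ₗ[F] (ι → F)} (h : Has f2 G v z S) : All f2 G v S := fun x hx => by
  refine O.h2.spread hv hz hzn (fun x => Has f2 G v x S) (fun a b _ _ => has_addz O)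
    (fun a _ ha => (has_neg O ha).2) (fun a p l _ hp ha => ?_) h hx
  obtain ⟨e, he, heX⟩ := O.tvR p l
  obtain ⟨g, hg, h1, h2⟩ := ha
  have hev : ∀ c, e (vecMulVec c v) = vecMulVec c v := fun c => by
    rw [heX, O.h2.symm0 hp, mul_zero, zero_smul, add_zero]
  refine ⟨e * g * e⁻¹, mul_mem (mul_mem he hg) (inv_mem he), fun c => ?_, fun c w hw => ?_⟩
  · show e (g (e.symm _)) = _
    rw [show e.symm (vecMulVec c v) = vecMulVec c v from e.injective (by rw [e.apply_symm_apply, hev]),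
      h1, hev]
  · have e1 : e.symm (vecMulVec c w) = vecMulVec c (w - (l * f2 w p) • p) := e.injective (by
      rw [e.apply_symm_apply, heX]
      simp only [O.h2.sub_left, O.h2.smul_left, O.h2.self, mul_zero, sub_zero, sub_add_cancel])
    show e (g (e.symm _)) = _
    rw [e1, h2 c _ (by rw [O.h2.sub_left, O.h2.smul_left, hw, hp, mul_zero, sub_zero]), map_add, ← e1,
      e.apply_symm_apply, hev]
    congr 3
    rw [O.h2.sub_left, O.h2.smul_left, O.h2.add_right, O.h2.smul_right, O.h2.swap a p]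
    ring

/-- Symmetry of the pattern, without endomorphisms that are not scalar. -/
theorem sigma_of_has (hA : ∀ x : κ → F, x ≠ 0 → ∀ T, InG O x T → ∃ s : F, ∀ c, T c = s • c)
    {v z : κ → F} (hv : v ≠ 0) (hzv : f2 z v = 0) (hzn : z ∉ F ∙ v) {S : (ι → F) →ₗ[F] (ι → F)}
    (h : Has f2 G v z S) : ∃ σ : F, ∀ c d, f1 (S c) d + f1 c (S d) = σ * f1 c d := by
  obtain ⟨g, hg, hfix, hq⟩ := h
  obtain ⟨y, hy⟩ := O.h2.exists_left hv
  obtain ⟨y', hy'⟩ := O.h2.exists_right hv
  obtain ⟨x, hxv, hzx⟩ := O.h2.exists_perp_ne hv hzn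
  have hxz : f2 x z ≠ 0 := O.h2.symm_ne hzx
  set w := (f2 x z)⁻¹ • x with hw
  have hwv : f2 w v = 0 := by rw [hw, O.h2.smul_left, hxv, mul_zero]
  have hvw : f2 v w = 0 := O.h2.symm0 hwv
  have hwz : f2 w z = 1 := by rw [hw, O.h2.smul_left, inv_mul_cancel₀ hxz]
  obtain ⟨E, hE, hEX, -⟩ := eich O 0 hwv
  obtain ⟨hperp, hin⟩ := qlin O hg hv hfix fun c x hx => by
    rw [hq c x hx, add_sub_cancel_left]; exact mem_col.2 ⟨_, rfl⟩
  let Δ : MV →ₗ[F] MV := g.toLinearMap - LinearMap.id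
  have hΔ : ∀ X, Δ X = g X - X := fun X => rfl
  have hΔN : ∀ Y ∈ Col (ι := ι) v, Δ Y = 0 := fun Y hY => by
    obtain ⟨c, rfl⟩ := mem_col.1 hY
    rw [hΔ, hfix, sub_self]
  have hδN : ∀ Y ∈ Col (ι := ι) v, dl O v w 0 Y = 0 := fun Y hY => by
    rw [dl_apply, cv_col O (O.h2.self v) hY, cv_col O hvw hY, zero_vecMulVec, zero_vecMulVec, smul_zero,
      add_zero, add_zero]
  have hδc : ∀ X, cv O v (dl O v w 0 X) = 0 := fun X => by
    simp [dl_apply, cv_pure, hwv, O.h2.self]
  have hδq : ∀ Y, cv O v Y = 0 → dl O v w 0 Y = vecMulVec (cv O w Y) v := fun Y hY => by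
    rw [dl_apply, hY, zero_vecMulVec, zero_vecMulVec, smul_zero, zero_add, add_zero]
  let C : MV →ₗ[F] MV := Δ ∘ₗ dl O v w 0 - dl O v w 0 ∘ₗ Δ
  have hC : ∀ X, C X = Δ (dl O v w 0 X) - dl O v w 0 (Δ X) := fun X => rfl
  have hCi : ∀ X, C X ∈ Col v := fun X => by
    rw [hC]
    refine (Col v).sub_mem (hin _ (hδc X)) ?_
    rw [hδq (Δ X) (hperp X)]
    exact mem_col.2 ⟨_, rfl⟩
  have hCk : ∀ c x, f2 x v = 0 → C (vecMulVec c x) = 0 := fun c x hx => by
    have h1 : dl O v w 0 (vecMulVec c x) ∈ Col v := by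
      rw [hδq _ (by rw [cv_pure, hx, zero_smul])]
      exact mem_col.2 ⟨_, rfl⟩
    rw [hC, hΔN _ h1, hδN (Δ (vecMulVec c x)) (by rw [hΔ, hq c x hx, add_sub_cancel_left]
                                                  exact mem_col.2 ⟨_, rfl⟩), sub_zero]
  have hCX := exists_rT O hy' hy C hCk hCi
  have hT : InG O v (cv O y' ∘ₗ C ∘ₗ colMap y) := by
    refine ⟨(E * g)⁻¹ * (g * E), mul_mem (inv_mem (mul_mem hE hg)) (mul_mem hg hE), fun X => ?_⟩
    refine (E * g).injective ?_
    rw [← LinearEquiv.mul_apply, mul_inv_cancel_left]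
    show g (E X) = E (g (X + vecMulVec (cv O y' (C (vecMulVec (cv O v X) y))) v))
    have hD' : ∀ X, g X = X + Δ X := fun X => by rw [hΔ, add_sub_cancel]
    rw [← hCX, map_add g, hEX X, map_add g, hD' (C X), hΔN _ (hCi X), add_zero, hD' X,
      hD' (dl O v w 0 X), hEX, map_add (dl O v w 0), map_add (dl O v w 0), hδN _ (hCi X), add_zero, hC]
    abel
  obtain ⟨r, hr⟩ := hA v hv _ hT
  refine ⟨r, fun c d => ?_⟩
  set P := Δ (vecMulVec c y) with hP
  have hPv : cv O v P = 0 := hperp _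
  have h1 : C (vecMulVec c y) = vecMulVec (S c - cv O w P) v := by
    rw [hC, ← hP, hδq P hPv, sub_vmv, dl_pure, hy, one_smul, zero_mul, zero_smul, add_zero,
      vecMulVec_add, map_add,
      hΔN (vecMulVec c (f2 y w • v)) (mem_col.2 ⟨f2 y w • c, by rw [smul_vecMulVec, vmv_smul]⟩), add_zero, hΔ,
      hq c w hwv, add_sub_cancel_left, hwz, one_smul]
  have h2 : cv O w P = S c - r • c := by
    have := hr c
    rw [LinearMap.comp_apply, LinearMap.comp_apply, colMap_apply, h1, cv_pure, hy', one_smul] at this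
    rw [← this]; abel
  have h3 := isom O hg (vecMulVec c y) (vecMulVec d w)
  rw [show g (vecMulVec c y) = vecMulVec c y + P by rw [hP, hΔ, add_sub_cancel], hq d w hwv, hwz, one_smul,
    O.f_add, f_addr O, f_addr O, O.f_pure, O.f_pure, f_cv O P, f_cv O P, h2, hPv, O.h1.zero_left,
    O.h1.sub_left, O.h1.smul_left, hy] at h3
  linear_combination h3

/-- Differences by transvections. -/
theorem all_diff {v : κ → F} {S : (ι → F) →ₗ[F] (ι → F)} (h : All f2 G v S) {σ : F}
    (hσ : ∀ c d, f1 (S c) d + f1 c (S d) = σ * f1 c d) (u : ι → F) (l : F) :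
    All f2 G v ((l * σ - l ^ 2 * f1 (S u) u) • O.h1.kk u
      - l • ((O.h1.lin u).smulRight (S u) + (O.h1.lin (S u)).smulRight u)) := by
  obtain ⟨e, he, heX, heX', -⟩ := left_tv O u l
  let hl : (ι → F) →ₗ[F] (ι → F) := LinearMap.id + l • O.h1.kk u
  let hi : (ι → F) →ₗ[F] (ι → F) := LinearMap.id - l • O.h1.kk u
  have h1 : All f2 G v (hl ∘ₗ S ∘ₗ hi) := fun z hz => by
    obtain ⟨g, hg, hfix, hq⟩ := h z hz
    refine ⟨e * g * e⁻¹, mul_mem (mul_mem he hg) (inv_mem he), fun c => ?_, fun c w hw => ?_⟩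
    · show e (g (e.symm _)) = _
      rw [heX', hfix, ← heX', e.apply_symm_apply]
    · show e (g (e.symm _)) = _
      rw [heX', hq _ w hw, map_add, ← heX', e.apply_symm_apply, heX]
      congr 2
      simp only [hl, hi, LinearMap.comp_apply, LinearMap.add_apply, LinearMap.sub_apply, LinearMap.id_apply,
        LinearMap.smul_apply, AForm.kk_apply, map_sub, map_smul, O.h1.sub_left, O.h1.smul_left, smul_add, smul_smul,
        mul_assoc]
      module
  convert all_add O h1 (all_neg O h) using 1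
  refine LinearMap.ext fun c => ?_
  have hcu : f1 (S c) u = σ * f1 c u - f1 c (S u) := by linear_combination hσ c u
  simp only [hl, hi, LinearMap.add_apply, LinearMap.sub_apply, LinearMap.neg_apply, LinearMap.smul_apply,
    LinearMap.comp_apply, LinearMap.id_apply, LinearMap.smulRight_apply, AForm.lin_apply, AForm.kk_apply,
    map_sub, map_smul, O.h1.sub_left, O.h1.smul_left, hcu]
  module

/-- The shape of an element of the radical. -/
theorem decomp {g : MV ≃ₗ[F] MV} (hg : g ∈ G) {v : κ → F} (hv : v ≠ 0)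
    (hfix : ∀ c, g (vecMulVec c v) = vecMulVec c v) (Γ : MV →ₗ[F] MV) (hΓv : ∀ d, Γ (vecMulVec d v) = 0)
    (hskew : ∀ X Y, f (Γ X) Y = -f X (Γ Y)) (hΓin : ∀ d x, f2 x v = 0 → Γ (vecMulVec d x) ∈ Col v)
    (hagree : ∀ c x, f2 x v = 0 → g (vecMulVec c x) = vecMulVec c x + Γ (vecMulVec c x))
    (hQ : ∀ X, Q (X + Γ X) = Q X) :
    ∃ T : (ι → F) →ₗ[F] (ι → F), (∀ X, g X = X + Γ X + vecMulVec (T (cv O v X)) v) ∧
      ∀ c, f1 (T c) c = 0 := by
  obtain ⟨y, hy⟩ := O.h2.exists_left hv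
  obtain ⟨y', hy'⟩ := O.h2.exists_right hv
  let D : MV →ₗ[F] MV := g.toLinearMap - LinearMap.id - Γ
  have hD : ∀ X, D X = g X - X - Γ X := fun X => rfl
  have hDi : ∀ X, D X ∈ Col v := fun X => col_of_cv O hv fun x hx => cv_eq_zero O fun d => by
    obtain ⟨γ, hγ⟩ := mem_col.1 (hΓin d x hx)
    have h1 := isom O hg X (vecMulVec d x)
    rw [hagree d x hx, f_addr O, ← hγ] at h1
    have h2 : f (g X) (vecMulVec γ v) = f X (vecMulVec γ v) := by
      conv_lhs => rw [← hfix γ]
      exact isom O hg _ _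
    rw [hD, fsubl O, fsubl O, hskew X, ← hγ]
    linear_combination h1 - h2
  have hDX := exists_rT O hy' hy D (fun c x hx => by rw [hD, hagree c x hx]; abel) hDi
  refine ⟨cv O y' ∘ₗ D ∘ₗ colMap y, fun X => ?_, fun c => ?_⟩
  · show _ = _ + vecMulVec (cv O y' (D (vecMulVec (cv O v X) y))) v
    rw [← hDX, hD]
    abel
  · set T : (ι → F) →ₗ[F] (ι → F) := cv O y' ∘ₗ D ∘ₗ colMap y
    have hgy : g (vecMulVec c y) = vecMulVec c y + Γ (vecMulVec c y) + vecMulVec (T c) v := by
      show _ = _ + vecMulVec (cv O y' (D (vecMulVec c y))) v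
      have e := hDX (vecMulVec c y)
      rw [cv_pure, hy, one_smul] at e
      rw [← e, hD]
      abel
    have h1 := O.isomQ g hg (vecMulVec c y)
    rw [hgy, O.Q_add, hQ, O.Q_pure, O.Q_pure, O.f_add, O.f_pure, hskew, hΓv, fzr O, hy] at h1
    exact O.h1.symm0 (by linear_combination h1)

/-- A transvection of the first factor commuting with the main part gives an eigenvector. -/
theorem eigen_of_comm (hA : ∀ x : κ → F, x ≠ 0 → ∀ T, InG O x T → ∃ s : F, ∀ c, T c = s • c)
    (h4 : 4 ≤ Fintype.card ι) {g : MV ≃ₗ[F] MV} (hg : g ∈ G) {v : κ → F} (hv : v ≠ 0) (Γ : MV →ₗ[F] MV)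
    (hΓv : ∀ d, Γ (vecMulVec d v) = 0) {T : (ι → F) →ₗ[F] (ι → F)}
    (hgX : ∀ X, g X = X + Γ X + vecMulVec (T (cv O v X)) v) {p : ι → F}
    (hcomm : ∀ e : MV ≃ₗ[F] MV, (∀ c x, e (vecMulVec c x) = vecMulVec (c + (1 * f1 c p) • p) x) →
      ∀ X, e (Γ X) = Γ (e X)) : T p ∈ F ∙ p := by
  rcases eq_or_ne p 0 with rfl | hp
  · rw [map_zero]; exact zero_mem _
  obtain ⟨e, he, heX, heX', hec⟩ := left_tv O p 1
  let hl : (ι → F) →ₗ[F] (ι → F) := LinearMap.id + O.h1.kk p
  let hi : (ι → F) →ₗ[F] (ι → F) := LinearMap.id - O.h1.kk p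
  have hT' : InG O v (hl ∘ₗ T ∘ₗ hi - T) := by
    refine ⟨g⁻¹ * (e * g * e⁻¹), mul_mem (inv_mem hg) (mul_mem (mul_mem he hg) (inv_mem he)),
      fun X => g.injective ?_⟩
    show g (g.symm (e (g (e.symm X)))) = _
    have hc : cv O v (e.symm X) = hi (cv O v X) := by
      have h := hec v (e.symm X)
      rw [e.apply_symm_apply] at h
      simp only [hi, LinearMap.sub_apply, LinearMap.id_apply, AForm.kk_apply, h, O.h1.add_left,
        O.h1.smul_left, O.h1.self, mul_zero, add_zero, one_mul, add_sub_cancel_right]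
    rw [g.apply_symm_apply, hgX, map_add, map_add, hcomm e heX, e.apply_symm_apply, heX, hc, hgX,
      map_add Γ, hΓv, add_zero, map_add (cv O v), cv_pure, O.h2.self, zero_smul, add_zero]
    simp only [hl, LinearMap.sub_apply, LinearMap.comp_apply, LinearMap.add_apply, LinearMap.id_apply,
      AForm.kk_apply, one_mul, sub_vmv]
    abel
  obtain ⟨r, hr⟩ := hA v hv _ hT'
  have hform : ∀ d, r • (d + f1 d p • p) = f1 (T d) p • p - f1 d p • T p := fun d => by
    have e : hi (d + f1 d p • p) = d := by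
      simp only [hi, LinearMap.sub_apply, LinearMap.id_apply, AForm.kk_apply, O.h1.add_left, O.h1.smul_left,
        O.h1.self, mul_zero, add_zero, add_sub_cancel_right]
    rw [← hr, LinearMap.sub_apply, LinearMap.comp_apply, LinearMap.comp_apply, e]
    simp only [hl, LinearMap.add_apply, LinearMap.id_apply, AForm.kk_apply, map_add, map_smul]
    abel
  have hr0 : r = 0 := O.h1.scalar_zero (p := p) (q := T p)
    (by rw [Module.finrank_fintype_fun_eq_card]; omega) fun x => by
      have h := hform (x - f1 x p • p)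
      rw [O.h1.sub_left, O.h1.smul_left, O.h1.self, mul_zero, sub_zero, sub_add_cancel] at h
      rw [h]
      exact Submodule.sub_mem _ (Submodule.smul_mem _ _ (Submodule.subset_span ⟨0, rfl⟩))
        (Submodule.smul_mem _ _ (Submodule.subset_span ⟨1, rfl⟩))
  obtain ⟨d, hd⟩ := O.h1.exists_left hp
  refine Submodule.mem_span_singleton.2 ⟨f1 (T d) p, ?_⟩
  have h := hform d
  rw [hr0, zero_smul, hd, one_smul, eq_comm, sub_eq_zero] at h
  exact h

/-- An element of the radical that is not pure gives a pattern that is not scalar. -/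
theorem exists_all (hA : ∀ x : κ → F, x ≠ 0 → ∀ T, InG O x T → ∃ s : F, ∀ c, T c = s • c)
    (hex : Ex f2 G) : ∃ v : κ → F, v ≠ 0 ∧ ∃ S, All f2 G v S ∧ (¬ ∃ s : F, ∀ c, S c = s • c) ∧
      ∃ σ : F, ∀ c d, f1 (S c) d + f1 c (S d) = σ * f1 c d := by
  obtain ⟨v, hv, D, hD, hfix, hQ, hnp⟩ := hex
  obtain ⟨z', hz'⟩ := O.h2.exists_left hv
  obtain ⟨z, hz⟩ := O.h2.exists_right hv
  let Δ : MV →ₗ[F] MV := D.toLinearMap - LinearMap.id
  have hΔ : ∀ X, Δ X = D X - X := fun X => rfl
  have hD' : ∀ X, D X = X + Δ X := fun X => by rw [hΔ, add_sub_cancel]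
  have hΔN : ∀ c, Δ (vecMulVec c v) = 0 := fun c => by rw [hΔ, hfix, sub_self]
  let Tw : (κ → F) → (ι → F) →ₗ[F] (ι → F) := fun w => cv O z ∘ₗ Δ ∘ₗ colMap w
  have hTw : ∀ c w, f2 w v = 0 → Δ (vecMulVec c w) = vecMulVec (Tw w c) v := fun c w hw => by
    obtain ⟨d, hd⟩ := mem_col.1 (hQ c w hw)
    show _ = vecMulVec (cv O z (Δ (vecMulVec c w))) v
    rw [hΔ, ← hd, cv_pure, hz, one_smul]
  by_cases hall : ∀ w, f2 w v = 0 → ∃ r : F, ∀ c, Tw w c = r • c
  · exfalso
    have := O.two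
    obtain ⟨i⟩ : Nonempty ι := Fintype.card_pos_iff.1 (by omega)
    let φ : (κ → F) →ₗ[F] F :=
      { toFun := fun x => cv O z (Δ (vecMulVec (Pi.single i 1) x)) i
        map_add' := fun x y => by rw [vecMulVec_add, map_add, map_add, Pi.add_apply]
        map_smul' := fun t x => by
          rw [vmv_smul, map_smul, map_smul, Pi.smul_apply, RingHom.id_apply] }
    have hφ : ∀ w, f2 w v = 0 → ∀ c, Δ (vecMulVec c w) = vecMulVec (φ w • c) v := fun w hw c => by
      obtain ⟨r, hr⟩ := hall w hw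
      have e : φ w = r := by
        show Tw w (Pi.single i 1) i = r
        rw [hr, Pi.smul_apply, Pi.single_eq_same, smul_eq_mul, mul_one]
      rw [hTw c w hw, hr, e]
    obtain ⟨w₀, hw₀⟩ := O.h2.exists_repr φ
    have hw₀v : f2 w₀ v = 0 := O.h2.symm0 (by
      rw [← hw₀]
      show cv O z (Δ (vecMulVec (Pi.single i 1) v)) i = 0
      rw [hΔN, map_zero, Pi.zero_apply])
    obtain ⟨E, hE, hEX, hEp⟩ := eich O 0 hw₀v
    have hEx : ∀ c x, f2 x v = 0 → E (vecMulVec c x) = D (vecMulVec c x) := fun c x hx => by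
      rw [hEX, hD', hφ x hx, hw₀, dl_pure, hx, zero_smul, zero_mul, zero_smul, add_zero, zero_add,
        vmv_smul, smul_vecMulVec]
    have hfix' : ∀ c x, f2 x v = 0 → (E⁻¹ * D) (vecMulVec c x) = vecMulVec c x := fun c x hx => by
      show E.symm (D (vecMulVec c x)) = _
      rw [← hEx c x hx, E.symm_apply_apply]
    have hgG : E⁻¹ * D ∈ G := mul_mem (inv_mem hE) hD
    obtain ⟨T, hT, -⟩ := decomp O hgG hv (fun c => hfix' c v (O.h2.self v)) 0 (fun d => rfl)
      (fun X Y => by simp [fzl O, fzr O]) (fun d x _ => (Col v).zero_mem)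
      (fun c x hx => by rw [hfix' c x hx]; simp) (fun X => by simp)
    obtain ⟨s, hs⟩ := hA v hv T ⟨_, hgG, fun X => by rw [hT]; simp⟩
    refine hnp ?_
    rw [← mul_inv_cancel_left E D]
    refine pure_mul O hEp ⟨fun x => x + (s * f2 x v) • v, fun c x => ?_⟩
    rw [hT, LinearMap.zero_apply, add_zero, hs, cv_pure, smul_smul, vecMulVec_add, vmv_smul,
      smul_vecMulVec]
  push Not at hall
  obtain ⟨z₀, hz₀, hS⟩ := hall
  have hz₀n : z₀ ∉ F ∙ v := fun hm => by
    obtain ⟨t, rfl⟩ := Submodule.mem_span_singleton.1 hm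
    obtain ⟨c, hc⟩ := hS 0
    refine hc ?_
    show cv O z (Δ (vecMulVec c (t • v))) = _
    rw [vmv_smul, map_smul, hΔN, smul_zero, map_zero, zero_smul]
  have hS' : ¬ ∃ s : F, ∀ c, (-Tw z₀) c = s • c := by
    rintro ⟨s, hs⟩
    obtain ⟨c, hc⟩ := hS (-s)
    refine hc ?_
    rw [neg_smul, ← hs c, LinearMap.neg_apply, neg_neg]
  have hhas : Has f2 G v z₀ (-Tw z₀) := by
    obtain ⟨t, ht, htX⟩ := O.tvR z₀ 1
    have htv : ∀ c, t (vecMulVec c v) = vecMulVec c v := fun c => by
      rw [htX, O.h2.symm0 hz₀, mul_zero, zero_smul, add_zero]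
    have hti : ∀ c w, t.symm (vecMulVec c w) = vecMulVec c (w - f2 w z₀ • z₀) := fun c w =>
      t.injective (by
        rw [t.apply_symm_apply, htX]
        simp only [O.h2.sub_left, O.h2.smul_left, O.h2.self, mul_zero, sub_zero, one_mul, sub_add_cancel])
    have hDi : ∀ c w, f2 w v = 0 → D.symm (vecMulVec c w) = vecMulVec c w - vecMulVec (Tw w c) v :=
      fun c w hw => D.injective (by
        rw [D.apply_symm_apply, map_sub, hfix, hD', hTw c w hw, add_sub_cancel_right])
    have hDv : ∀ c, D.symm (vecMulVec c v) = vecMulVec c v := fun c => D.injective (by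
      rw [D.apply_symm_apply, hfix])
    have htv' : ∀ c, t.symm (vecMulVec c v) = vecMulVec c v := fun c => t.injective (by
      rw [t.apply_symm_apply, htv])
    refine ⟨t * D * t⁻¹ * D⁻¹, mul_mem (mul_mem (mul_mem ht hD) (inv_mem ht)) (inv_mem hD), fun c => ?_,
      fun c w hw => ?_⟩
    · show t (D (t.symm (D.symm _))) = _
      rw [hDv, htv', hfix, htv]
    · show t (D (t.symm (D.symm _))) = _
      rw [hDi c w hw, map_sub, htv', hti, map_sub D, hfix, vmv_sub, vmv_smul, map_sub D, map_smul D,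
        hD' (vecMulVec c w), hTw c w hw, hD' (vecMulVec c z₀), hTw c z₀ hz₀]
      simp only [map_add, map_sub, map_smul, htv, htX, O.h2.self, mul_zero, zero_smul, add_zero,
        vecMulVec_add, vmv_smul, LinearMap.neg_apply, smul_neg, neg_vmv, smul_vecMulVec, one_mul]
      module
  exact ⟨v, hv, _, all_of_has O hv hz₀ hz₀n hhas, hS', sigma_of_has O hA hv hz₀ hz₀n hhas⟩

end

end CfsgLib.MaxSub.TensorSymp
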