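/-
The patterns lead to Siegel elements of pure tensors moving one of the factors.
-/
import Cfsg.Agent.Lib.MaxSub.TensorSymp.Exit

set_option autoImplicit false
set_option maxHeartbeats 800000
set_option linter.unusedSectionVars false

namespace CfsgLib.MaxSub.TensorSymp

open Matrix Module
open CfsgLib.MaxSub.TensorLin (Col colMap colMap_apply mem_col vmv_eq_zero vmv_zero exists_dot_one)

variable {F : Type*} [Field F]
variable {ι κ : Type*} [Fintype ι] [Fintype κ] [DecidableEq ι] [DecidableEq κ]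
variable {f1 : (ι → F) → (ι → F) → F} {f2 : (κ → F) → (κ → F) → F} {Q : Matrix ι κ F → F}
  {f : Matrix ι κ F → Matrix ι κ F → F} {G : Subgroup (Matrix ι κ F ≃ₗ[F] Matrix ι κ F)}

local notation "MV" => Matrix ι κ F

section

variable (O : TS f1 f2 Q f G)
include O

/-- A skew map with singular image, orthogonal to the pure tensors it comes from, gives an isometry. -/
theorem Q_gamma (Γ : MV →ₗ[F] MV) (hskew : ∀ X Y, f (Γ X) Y = -f X (Γ Y))
    (hsq : ∀ c x, Γ (Γ (vecMulVec c x)) = 0) (hdiag : ∀ c x, f (vecMulVec c x) (Γ (vecMulVec c x)) = 0)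
    (hQp : ∀ c x, Q (Γ (vecMulVec c x)) = 0) (X : MV) : Q (X + Γ X) = Q X := by
  have hsq' : ∀ Y, Γ (Γ Y) = 0 := fun Y =>
    ext_pure (A := Γ ∘ₗ Γ) (B := 0) (fun c x => hsq c x) Y
  have hGG : ∀ Y Z, f (Γ Y) (Γ Z) = 0 := fun Y Z => by rw [hskew, hsq', fzr O, neg_zero]
  have key : ∀ s : Finset ι, ∀ c : ι → κ → F,
      Q (Γ (∑ i ∈ s, vecMulVec (Pi.single i 1) (c i))) = 0 ∧
      f (∑ i ∈ s, vecMulVec (Pi.single i 1) (c i)) (Γ (∑ i ∈ s, vecMulVec (Pi.single i 1) (c i))) = 0 := by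
    intro s c
    classical
    induction s using Finset.induction with
    | empty => simp [Q_zero O, fzl O]
    | insert a s ha ih =>
      rw [Finset.sum_insert ha, map_add]
      refine ⟨by rw [O.Q_add, hQp, ih.1, hGG]; ring, ?_⟩
      rw [O.f_add, f_addr O, f_addr O, hdiag, ih.2, f_comm O (Γ (vecMulVec (Pi.single a 1) (c a))), hskew]
      ring
  have e : X = ∑ i, vecMulVec (Pi.single i (1 : F)) (X i) := by
    ext i j
    simp [Matrix.sum_apply, vecMulVec_apply, Pi.single_apply]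
  obtain ⟨h1, h2⟩ := key Finset.univ fun i => X i
  rw [← e] at h1 h2
  rw [O.Q_add, h1, h2, add_zero, add_zero]

/-- The pattern of rank one. -/
theorem typeB_of_kk (hA : ∀ x : κ → F, x ≠ 0 → ∀ T, InG O x T → ∃ s : F, ∀ c, T c = s • c) {v : κ → F}
    (hv : v ≠ 0) {u : ι → F} (hu : u ≠ 0) (h : All f2 G v (O.h1.kk u)) : TypeB f2 Q f G := by
  have hb := O.six
  obtain ⟨z, hz', hzn⟩ := O.h2.exists_perp_notMem ![v]
    (by rw [Module.finrank_fintype_fun_eq_card]; omega) v
  have hz : f2 z v = 0 := hz' 0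
  have hvz : f2 v z = 0 := O.h2.symm0 hz
  obtain ⟨g, hg, hfix, hq⟩ := h z hz
  let Γ : MV →ₗ[F] MV :=
    (flin O (vecMulVec u z)).smulRight (vecMulVec u v) - (flin O (vecMulVec u v)).smulRight (vecMulVec u z)
  have hΓ : ∀ X, Γ X = f X (vecMulVec u z) • vecMulVec u v - f X (vecMulVec u v) • vecMulVec u z :=
    fun X => rfl
  have hΓv : ∀ d, Γ (vecMulVec d v) = 0 := fun d => by
    rw [hΓ, O.f_pure, O.f_pure, hvz, O.h2.self, mul_zero, zero_smul, zero_smul, sub_zero]
  have hskew : ∀ X Y, f (Γ X) Y = -f X (Γ Y) := fun X Y => by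
    rw [hΓ, hΓ, fsubl O, fsubr O, O.f_smul, O.f_smul, fsr O, fsr O, f_comm O Y (vecMulVec u v),
      f_comm O Y (vecMulVec u z)]
    ring
  obtain ⟨T, hT, hTalt⟩ := decomp O hg hv hfix Γ hΓv hskew
    (fun d x hx => by
      rw [hΓ, O.f_pure d u x v, hx, mul_zero, zero_smul, sub_zero]
      exact (Col v).smul_mem _ (mem_col.2 ⟨u, rfl⟩))
    (fun c x hx => by
      rw [hq c x hx, hΓ, O.f_pure c u x v, hx, mul_zero, zero_smul, sub_zero, O.f_pure, AForm.kk_apply,
        smul_smul, smul_vecMulVec, mul_comm])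
    (Q_gamma O Γ hskew
      (fun c x => by
        simp only [hΓ, fsubl O, O.f_smul, O.f_pure, O.h1.self, zero_mul, mul_zero, zero_smul, sub_zero,
          smul_zero])
      (fun c x => by rw [hΓ, fsubr O, fsr O, fsr O]; ring)
      (fun c x => by
        rw [hΓ, sub_eq_add_neg, ← neg_smul, O.Q_add, O.Q_smul, O.Q_smul, O.Q_pure, O.Q_pure, O.f_smul,
          fsr O, O.f_pure u u, O.h1.self, zero_mul]
        ring))
  obtain ⟨s, hs⟩ : ∃ s : F, ∀ c, T c = s • c := by
    rcases O.four with h2 | h4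
    · exact O.h1.alt_two (by rw [Module.finrank_fintype_fun_eq_card, h2]) hTalt
    obtain ⟨W, hW, -⟩ := O.h1.finrank_perp_le ![u]
    obtain ⟨s, hs⟩ := O.h1.scalar_of_eigen (W := W) (T := T) fun p hp =>
      eigen_of_comm O hA h4 hg hv Γ hΓv hT fun e he X => by
        have hup : f1 u p = 0 := O.h1.symm0 ((hW p).1 hp 0)
        have heu : ∀ x, e (vecMulVec u x) = vecMulVec u x := fun x => by
          rw [he, hup, mul_zero, zero_smul, add_zero]
        refine ext_pure (A := e.toLinearMap ∘ₗ Γ) (B := Γ ∘ₗ e.toLinearMap) (fun c x => ?_) X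
        show e (Γ (vecMulVec c x)) = Γ (e (vecMulVec c x))
        rw [hΓ, map_sub, map_smul, map_smul, heu, heu, he, hΓ]
        simp only [O.f_pure, O.h1.add_left, O.h1.smul_left, O.h1.symm0 hup, mul_zero, add_zero]
    refine ⟨s, fun c => sub_eq_zero.1 ?_⟩
    obtain ⟨a, ha⟩ := O.h1.exists_right hu
    have hmem : ∀ d, T d - s • d ∈ F ∙ u := fun d => O.h1.perp_perp hu fun p hp => by
      rw [O.h1.sub_left, O.h1.alt_adj hTalt, hs p ((hW p).2 fun i => by fin_cases i; exact hp),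
        O.h1.smul_left, O.h1.smul_right, sub_self]
    have hzero : ∀ d, f1 u d ≠ 0 → T d - s • d = 0 := fun d hd => by
      obtain ⟨r, hr⟩ := Submodule.mem_span_singleton.1 (hmem d)
      have := congrArg (fun w => f1 w d) hr
      simp only [O.h1.smul_left, O.h1.sub_left, hTalt, O.h1.self, mul_zero, sub_zero] at this
      rw [← hr, (mul_eq_zero.1 this).resolve_right hd, zero_smul]
    by_cases hc : f1 u c = 0
    · have h1 := hzero (c + a) (by rw [O.h1.add_right, hc, ha, zero_add]; exact one_ne_zero)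
      have h2 := hzero a (by rw [ha]; exact one_ne_zero)
      rw [map_add, smul_add, add_sub_add_comm, h2, add_zero] at h1
      exact h1
    · exact hzero c hc
  obtain ⟨t, ht, htX, -⟩ := tv O v (-s)
  refine ⟨u, v, -z, hu, hv, by rw [O.h2.neg_left, hz, neg_zero], fun hm => hzn (by
    have h := Submodule.neg_mem _ hm
    rwa [neg_neg] at h),
    by rw [O.f_pure, O.h2.neg_left, hz, neg_zero, mul_zero], g * t, mul_mem hg ht, fun X => ?_⟩
  rw [LinearEquiv.mul_apply, htX, O.Q_pure, zero_mul, zero_smul, sub_zero, hT, vmv_neg, fnr O,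
    map_add Γ, map_smul Γ, hΓv, smul_zero, add_zero, map_add (cv O v), map_smul (cv O v), cv_pure,
    O.h2.self, zero_smul, smul_zero, add_zero, hs, hΓ, smul_vecMulVec]
  module

omit O in
/-- A map applied to the first factor. -/
def lm (S : (ι → F) →ₗ[F] (ι → F)) : MV →ₗ[F] MV where
  toFun X := LinearMap.toMatrix' S * X
  map_add' X Y := Matrix.mul_add _ X Y
  map_smul' t X := Matrix.mul_smul _ t X

omit O in
theorem lm_pure (S : (ι → F) →ₗ[F] (ι → F)) (c : ι → F) (x : κ → F) :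
    lm S (vecMulVec c x) = vecMulVec (S c) x := by
  show LinearMap.toMatrix' S * vecMulVec c x = _
  rw [mul_vecMulVec, LinearMap.toMatrix'_mulVec]

/-- The displacement of a Siegel element on the second factor. -/
def dv (v z : κ → F) (μ : F) : (κ → F) →ₗ[F] (κ → F) :=
  (O.h2.lin v).smulRight z + (O.h2.lin z).smulRight v + μ • (O.h2.lin v).smulRight v

theorem dv_apply (v z : κ → F) (μ : F) (x : κ → F) :
    dv O v z μ x = f2 x v • z + f2 x z • v + (μ * f2 x v) • v := by
  simp [dv, AForm.lin_apply, smul_smul]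

theorem dv_skew (v z : κ → F) (μ : F) (x w : κ → F) :
    f2 (dv O v z μ x) w = -f2 x (dv O v z μ w) := by
  simp only [dv_apply, O.h2.add_left, O.h2.add_right, O.h2.smul_left, O.h2.smul_right]
  rw [O.h2.swap w z, O.h2.swap w v]
  ring

omit O in
theorem comm_pair (h2 : (2 : F) = 0) (g1 g2 : MV ≃ₗ[F] MV) (A B : MV →ₗ[F] MV) (hA : ∀ X, g1 X = X + A X)
    (hB : ∀ X, g2 X = X + B X) (hAA : ∀ X, A (A X) = 0) (hBB : ∀ X, B (B X) = 0)
    (hABA : ∀ X, A (B (A X)) = 0) (hBAB : ∀ X, B (A (B X)) = 0) (X : MV) :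
    (g1 * g2 * (g1 * g2)) X = X + A (B X) + B (A X) := by
  simp only [LinearEquiv.mul_apply, hA, hB, map_add, hAA, hBB, hABA, hBAB, add_zero, zero_add, map_zero]
  have hd : ∀ W : MV, W + W = 0 := fun W => by rw [← two_smul F W, h2, zero_smul]
  linear_combination (norm := abel) hd (B X) + hd (A X) + hd (A (B X))

/-- The exact pattern of rank two and a conjugate one. -/
theorem rr_pair (h2 : (2 : F) = 0) {v : κ → F} (hv : v ≠ 0) {u y : ι → F} (hu : u ≠ 0)
    (huy : f1 u y = 0) (hyn : y ∉ F ∙ u) {z : κ → F} (hzn : z ∉ F ∙ v) (hz : f2 z v = 0) {γ : F}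
    {g₀ : MV ≃ₗ[F] MV} (hg₀ : g₀ ∈ G)
    (hg1 : ∀ c x, g₀ (vecMulVec c x) = vecMulVec c x
      + vecMulVec (((O.h1.lin y).smulRight u + (O.h1.lin u).smulRight y) c) (dv O v z γ x)) :
    TypeB f2 Q f G := by
  have hb := O.six
  have hsym1 : ∀ a b, f1 b a = f1 a b := fun a b => by rw [O.h1.swap]; linear_combination -f1 a b * h2
  have hsym2 : ∀ a b, f2 b a = f2 a b := fun a b => by rw [O.h2.swap]; linear_combination -f2 a b * h2
  have hyu : f1 y u = 0 := O.h1.symm0 huy
  have hvz : f2 v z = 0 := O.h2.symm0 hz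
  set R := (O.h1.lin y).smulRight u + (O.h1.lin u).smulRight y with hR
  have hRx : ∀ c, R c = f1 c y • u + f1 c u • y := fun c => rfl
  have hRu : R u = 0 := by rw [hRx, huy, O.h1.self, zero_smul, zero_smul, add_zero]
  have hRy : R y = 0 := by rw [hRx, hyu, O.h1.self, zero_smul, zero_smul, add_zero]
  have hRR : ∀ c, R (R c) = 0 := fun c => by
    rw [hRx c, map_add, map_smul, map_smul, hRu, hRy, smul_zero, smul_zero, add_zero]
  -- the second pair
  have hz0 : z ≠ 0 := fun e => hzn (by rw [e]; exact zero_mem _)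
  have hvn : v ∉ F ∙ z := fun hm => by
    obtain ⟨r, hr⟩ := Submodule.mem_span_singleton.1 hm
    refine hzn (Submodule.mem_span_singleton.2 ⟨r⁻¹, ?_⟩)
    rw [← hr, smul_smul, inv_mul_cancel₀ (fun e : r = 0 => hv (by rw [← hr, e, zero_smul])), one_smul]
  obtain ⟨v', hzv', hvv'⟩ : ∃ v', f2 z v' = 0 ∧ f2 v v' = 1 := by
    obtain ⟨x, hx, hvx⟩ := O.h2.exists_perp_ne hz0 hvn
    exact ⟨(f2 v x)⁻¹ • x, by rw [O.h2.smul_right, O.h2.symm0 hx, mul_zero],
      by rw [O.h2.smul_right, inv_mul_cancel₀ hvx]⟩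
  obtain ⟨z', hvz', hzz', hv'z'⟩ : ∃ z', f2 v z' = 0 ∧ f2 z z' = 1 ∧ f2 v' z' = 0 := by
    obtain ⟨x, hx, hzx⟩ := O.h2.exists_perp_ne hv hzn
    have e := O.h2.symm0 hx
    refine ⟨(f2 z x)⁻¹ • x + ((f2 z x)⁻¹ * f2 v' x) • v, ?_, ?_, ?_⟩
    · rw [O.h2.add_right, O.h2.smul_right, O.h2.smul_right, e, O.h2.self, mul_zero, mul_zero, add_zero]
    · rw [O.h2.add_right, O.h2.smul_right, O.h2.smul_right, hz, mul_zero, add_zero, inv_mul_cancel₀ hzx]
    · rw [O.h2.add_right, O.h2.smul_right, O.h2.smul_right, O.h2.swap v v', hvv']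
      ring
  obtain ⟨y₂, huy₂, hyy₂⟩ : ∃ y₂, f1 u y₂ = 0 ∧ f1 y y₂ = 1 := by
    obtain ⟨x, hx, hyx⟩ := O.h1.exists_perp_ne hu hyn
    exact ⟨(f1 y x)⁻¹ • x, by rw [O.h1.smul_right, O.h1.symm0 hx, mul_zero],
      by rw [O.h1.smul_right, inv_mul_cancel₀ hyx]⟩
  obtain ⟨el, hel, helX⟩ := O.tvL (y₂ - y) 1
  obtain ⟨e1, he1, he1X⟩ := O.tvR (v' - v) 1
  obtain ⟨e2, he2, he2X⟩ := O.tvR (z' - z) 1
  let hl : (ι → F) → (ι → F) := fun c => c + (1 * f1 c (y₂ - y)) • (y₂ - y)
  let L1 : (κ → F) → (κ → F) := fun x => x + (1 * f2 x (v' - v)) • (v' - v)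
  let L2 : (κ → F) → (κ → F) := fun x => x + (1 * f2 x (z' - z)) • (z' - z)
  have hev : ∀ c x, (el * (e2 * e1)) (vecMulVec c x) = vecMulVec (hl c) (L2 (L1 x)) := fun c x => by
    rw [LinearEquiv.mul_apply, LinearEquiv.mul_apply, he1X, he2X, helX]
  have hLv : L2 (L1 v) = v' := by
    have e : L1 v = v' := by
      show v + _ = v'
      rw [O.h2.sub_right, hvv', O.h2.self, sub_zero, one_mul, one_smul, add_sub_cancel]
    show L1 v + _ = v'
    rw [e, O.h2.sub_right, hv'z', hsym2 z v', hzv', sub_zero, mul_zero, zero_smul, add_zero]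
  have hLz : L2 (L1 z) = z' := by
    have e : L1 z = z := by
      show z + _ = z
      rw [O.h2.sub_right, hzv', hz, sub_zero, mul_zero, zero_smul, add_zero]
    show L1 z + _ = z'
    rw [e, O.h2.sub_right, hzz', O.h2.self, sub_zero, one_mul, one_smul, add_sub_cancel]
  have hlu : hl u = u := by
    show u + _ = u
    rw [O.h1.sub_right, huy₂, huy, sub_zero, mul_zero, zero_smul, add_zero]
  have hly : hl y = y₂ := by
    show y + _ = y₂
    rw [O.h1.sub_right, hyy₂, O.h1.self, sub_zero, one_mul, one_smul, add_sub_cancel]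
  have hLiso : ∀ x w, f2 (L2 (L1 x)) (L2 (L1 w)) = f2 x w := fun x w => by
    show f2 (L1 x + _) (L1 w + _) = _
    rw [O.h2.tv_isom]
    exact O.h2.tv_isom _ 1 x w
  have hliso : ∀ c d, f1 (hl c) (hl d) = f1 c d := fun c d => O.h1.tv_isom _ 1 c d
  set R' := (O.h1.lin y₂).smulRight u + (O.h1.lin u).smulRight y₂ with hR'
  have hR'x : ∀ c, R' c = f1 c y₂ • u + f1 c u • y₂ := fun c => rfl
  have hlin : ∀ a b : F, hl (a • u + b • y) = a • hl u + b • hl y := fun a b => by
    simp only [hl, O.h1.add_left, O.h1.smul_left, one_mul, smul_add, smul_smul, add_smul]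
    abel
  have hLlin : ∀ a b c' : F, L2 (L1 (a • z + b • v + c' • v))
      = a • L2 (L1 z) + b • L2 (L1 v) + c' • L2 (L1 v) := fun a b c' => by
    simp only [L1, L2, O.h2.add_left, O.h2.smul_left, one_mul, smul_add, smul_smul, add_smul, mul_add,
      mul_assoc]
    abel
  have hg2 : ∀ c x, ((el * (e2 * e1)) * g₀ * (el * (e2 * e1))⁻¹) (vecMulVec c x) =
      vecMulVec c x + vecMulVec (R' c) (dv O v' z' γ x) := fun c x => by
    have key : ∀ d w, (el * (e2 * e1)) (g₀ (vecMulVec d w)) = (el * (e2 * e1)) (vecMulVec d w)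
        + lm R' (dl O v' z' γ ((el * (e2 * e1)) (vecMulVec d w))) := fun d w => by
      rw [hg1, map_add, hev (R d), hev d w, dl_pure, lm_pure, hRx, hlin, hlu, hly, dv_apply, hLlin, hLv,
        hLz, hR'x]
      have a1 : f1 (hl d) y₂ = f1 d y := by rw [← hly, hliso]
      have a2 : f1 (hl d) u = f1 d u := by
        conv_lhs => rw [← hlu]
        exact hliso d u
      have b1 : f2 (L2 (L1 w)) v' = f2 w v := by rw [← hLv, hLiso]
      have b2 : f2 (L2 (L1 w)) z' = f2 w z := by rw [← hLz, hLiso]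
      rw [a1, a2, b1, b2]
    have h := ext_pure (A := ((el * (e2 * e1)) * g₀).toLinearMap)
      (B := (el * (e2 * e1)).toLinearMap + lm R' ∘ₗ dl O v' z' γ ∘ₗ (el * (e2 * e1)).toLinearMap)
      key ((el * (e2 * e1)).symm (vecMulVec c x))
    simp only [LinearMap.add_apply, LinearMap.comp_apply, LinearEquiv.coe_coe,
      LinearEquiv.apply_symm_apply] at h
    rw [dv_apply, ← lm_pure, ← dl_pure O v' z' γ c x]
    exact h
  -- the commutator
  set g1 := g₀
  set g2 := (el * (e2 * e1)) * g₀ * (el * (e2 * e1))⁻¹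
  have hg1G : g1 ∈ G := hg₀
  have hg2G : g2 ∈ G :=
    mul_mem (mul_mem (mul_mem hel (mul_mem he2 he1)) hg1G) (inv_mem (mul_mem hel (mul_mem he2 he1)))
  have hyy' : f1 y₂ y = 1 := by rw [hsym1, hyy₂]
  have hR'u : R' u = 0 := by rw [hR'x, huy₂, O.h1.self, zero_smul, zero_smul, add_zero]
  have hR'R' : ∀ c, R' (R' c) = 0 := fun c => by
    rw [hR'x c, map_add, map_smul, map_smul, hR'u, hR'x y₂, O.h1.self, O.h1.symm0 huy₂]
    simp
  have hRR' : ∀ c, R (R' c) = f1 c u • u := fun c => by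
    rw [hR'x c, map_add, map_smul, map_smul, hRu, hRx y₂, hyy', O.h1.symm0 huy₂]
    simp
  have hR'R : ∀ c, R' (R c) = f1 c u • u := fun c => by
    rw [hRx c, map_add, map_smul, map_smul, hR'u, hR'x y, hyy₂, hyu]
    simp
  set P : (κ → F) → (κ → F) := fun x => dv O v z γ (dv O v' z' γ x) + dv O v' z' γ (dv O v z γ x) with hP
  have hg3 : ∀ c x, (g1 * g2 * (g1 * g2)) (vecMulVec c x) =
      vecMulVec c x + vecMulVec (f1 c u • u) (P x) := fun c x => by
    have h := comm_pair h2 g1 g2 (lm R ∘ₗ dl O v z γ) (lm R' ∘ₗ dl O v' z' γ)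
      (fun X => ?_) (fun X => ?_) (fun X => ?_) (fun X => ?_) (fun X => ?_) (fun X => ?_) (vecMulVec c x)
    · rw [h, hP]
      simp only [LinearMap.comp_apply, dl_pure, lm_pure, ← dv_apply O, hRR', hR'R, vecMulVec_add]
      abel
    · exact ext_pure (A := g1.toLinearMap) (B := LinearMap.id + lm R ∘ₗ dl O v z γ)
        (fun c x => by simp [hg1, dl_pure, lm_pure, dv_apply]) X
    · exact ext_pure (A := g2.toLinearMap) (B := LinearMap.id + lm R' ∘ₗ dl O v' z' γ)
        (fun c x => by simp [hg2, dl_pure, lm_pure, dv_apply]) X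
    · exact ext_pure (A := (lm R ∘ₗ dl O v z γ) ∘ₗ (lm R ∘ₗ dl O v z γ)) (B := 0)
        (fun c x => by simp [dl_pure, lm_pure, hRR]) X
    · exact ext_pure (A := (lm R' ∘ₗ dl O v' z' γ) ∘ₗ (lm R' ∘ₗ dl O v' z' γ)) (B := 0)
        (fun c x => by simp [dl_pure, lm_pure, hR'R']) X
    · exact ext_pure (A := (lm R ∘ₗ dl O v z γ) ∘ₗ (lm R' ∘ₗ dl O v' z' γ) ∘ₗ (lm R ∘ₗ dl O v z γ)) (B := 0)
        (fun c x => by simp [dl_pure, lm_pure, hR'R, hRu]) X
    · exact ext_pure (A := (lm R' ∘ₗ dl O v' z' γ) ∘ₗ (lm R ∘ₗ dl O v z γ) ∘ₗ (lm R' ∘ₗ dl O v' z' γ)) (B := 0)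
        (fun c x => by simp [dl_pure, lm_pure, hRR', hR'u]) X
  -- the perpendicular of the four
  obtain ⟨r, hr', hr0⟩ : ∃ r, (∀ i, f2 r (![v, z, v', z'] i) = 0) ∧ r ∉ F ∙ (0 : κ → F) :=
    O.h2.exists_perp_notMem _ (by rw [Module.finrank_fintype_fun_eq_card]; omega) 0
  rw [Submodule.span_zero_singleton, Submodule.mem_bot] at hr0
  have hrv : f2 r v = 0 := hr' 0
  have hrz : f2 r z = 0 := hr' 1
  have hrv' : f2 r v' = 0 := hr' 2
  have hrz' : f2 r z' = 0 := hr' 3
  set x₀ := z + r with hx₀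
  set y₀ := z + γ • v with hy₀
  have hPadj : ∀ x w, f2 (P x) w = f2 x (P w) := fun x w => by
    simp only [hP, O.h2.add_left, O.h2.add_right, dv_skew, neg_neg]
    ring
  have hPx₀ : P x₀ = y₀ := by
    have hv'v : f2 v' v = 1 := by rw [hsym2, hvv']
    have hv'z : f2 v' z = 0 := O.h2.symm0 hzv'
    have e1 : dv O v z γ x₀ = 0 := by
      simp [dv_apply, hx₀, O.h2.add_left, hz, O.h2.self, hrv, hrz]
    have e2 : dv O v' z' γ x₀ = v' := by
      simp [dv_apply, hx₀, O.h2.add_left, hzv', hzz', hrv', hrz']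
    show dv O v z γ (dv O v' z' γ x₀) + _ = y₀
    rw [e1, e2, map_zero, add_zero, dv_apply, hv'v, hv'z]
    simp [hy₀]
  have hy₀x₀ : f2 y₀ x₀ = 0 := by
    simp [hy₀, hx₀, O.h2.add_left, O.h2.add_right, O.h2.smul_left, O.h2.self, hvz, O.h2.symm0 hrz,
      O.h2.symm0 hrv]
  have hx₀0 : x₀ ≠ 0 := fun e => by
    have := congrArg (fun w => f2 w z') e
    simp [hx₀, O.h2.add_left, hzz', hrz', O.h2.zero_left] at this
  obtain ⟨et, het, hetX⟩ := O.tvR x₀ 1
  refine ⟨u, x₀, y₀, hu, hx₀0, hy₀x₀, fun hm => ?_, by rw [O.f_pure, hy₀x₀, mul_zero],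
    (g1 * g2 * (g1 * g2)) * (et * (g1 * g2 * (g1 * g2)) * et),
    mul_mem (mul_mem (mul_mem hg1G hg2G) (mul_mem hg1G hg2G))
      (mul_mem (mul_mem het (mul_mem (mul_mem hg1G hg2G) (mul_mem hg1G hg2G))) het), fun X => ?_⟩
  · obtain ⟨m, hm⟩ := Submodule.mem_span_singleton.1 hm
    have h1 := congrArg (fun w => f2 w z') hm
    simp only [hy₀, hx₀, O.h2.smul_left, O.h2.add_left, hzz', hrz', hvz', add_zero, mul_zero, mul_one] at h1
    rw [h1, one_smul, hy₀, hx₀, add_right_inj] at hm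
    have h2' := congrArg (fun w => f2 w v') hm
    simp only [O.h2.smul_left, hrv', hvv', mul_one] at h2'
    exact hr0 (by rw [hm, ← h2', zero_smul])
  · set g3 := g1 * g2 * (g1 * g2)
    rw [O.Q_pure, zero_mul, zero_smul, sub_zero]
    refine ext_pure (A := (g3 * (et * g3 * et)).toLinearMap)
      (B := LinearMap.id + ((flin O (vecMulVec u x₀)).smulRight (vecMulVec u y₀)
        - (flin O (vecMulVec u y₀)).smulRight (vecMulVec u x₀)))
      (fun c x => ?_) X |>.trans (add_sub_assoc _ _ _).symm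
    show g3 (et (g3 (et (vecMulVec c x)))) = vecMulVec c x + (f (vecMulVec c x) (vecMulVec u x₀) •
      vecMulVec u y₀ - f (vecMulVec c x) (vecMulVec u y₀) • vecMulVec u x₀)
    rw [hetX, hg3, map_add, hetX, hetX, map_add, hg3, hg3, O.f_pure, O.f_pure]
    have hPx : ∀ w, f2 (P w) x₀ = f2 w y₀ := fun w => by rw [hPadj, hPx₀]
    have e0 : x + (1 * f2 x x₀) • x₀ + (1 * f2 (x + (1 * f2 x x₀) • x₀) x₀) • x₀ = x := by
      rw [O.h2.add_left, O.h2.smul_left, O.h2.self]
      simp only [mul_zero, add_zero, one_mul]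
      match_scalars <;> grind
    rw [e0, O.h1.smul_left, O.h1.self, mul_zero, zero_smul, zero_vecMulVec, add_zero, hPx, O.h2.add_left,
      O.h2.smul_left]
    have hPlin : P (x + (1 * f2 x x₀) • x₀) = P x + (1 * f2 x x₀) • y₀ := by
      rw [← hPx₀]
      simp only [hP, map_add, map_smul, smul_add]
      abel
    rw [hPlin, O.h2.swap y₀ x₀ |>.trans (by rw [hy₀x₀, neg_zero]) |> fun e : f2 x₀ y₀ = 0 => e]
    simp only [vecMulVec_add, vmv_smul, smul_vecMulVec, mul_zero, add_zero, one_mul]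
    match_scalars <;> grind


/-- The pattern of rank two in characteristic two. -/
theorem typeB_of_rr (hA : ∀ x : κ → F, x ≠ 0 → ∀ T, InG O x T → ∃ s : F, ∀ c, T c = s • c)
    (h2 : (2 : F) = 0) (h4 : 4 ≤ Fintype.card ι) {v : κ → F} (hv : v ≠ 0) {u y : ι → F} (hu : u ≠ 0)
    (huy : f1 u y = 0) (hyn : y ∉ F ∙ u)
    (h : All f2 G v ((O.h1.lin y).smulRight u + (O.h1.lin u).smulRight y)) : TypeB f2 Q f G := by
  have hb := O.six
  have hsym1 : ∀ a b, f1 b a = f1 a b := fun a b => by rw [O.h1.swap]; linear_combination -f1 a b * h2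
  have hsym2 : ∀ a b, f2 b a = f2 a b := fun a b => by rw [O.h2.swap]; linear_combination -f2 a b * h2
  have hyu : f1 y u = 0 := O.h1.symm0 huy
  set R := (O.h1.lin y).smulRight u + (O.h1.lin u).smulRight y with hR
  have hRx : ∀ c, R c = f1 c y • u + f1 c u • y := fun c => rfl
  have hRu : R u = 0 := by rw [hRx, huy, O.h1.self, zero_smul, zero_smul, add_zero]
  have hRy : R y = 0 := by rw [hRx, hyu, O.h1.self, zero_smul, zero_smul, add_zero]
  have hRR : ∀ c, R (R c) = 0 := fun c => by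
    rw [hRx c, map_add, map_smul, map_smul, hRu, hRy, smul_zero, smul_zero, add_zero]
  -- the exact element
  obtain ⟨z, hz', hzn⟩ := O.h2.exists_perp_notMem ![v]
    (by rw [Module.finrank_fintype_fun_eq_card]; omega) v
  have hz : f2 z v = 0 := hz' 0
  have hvz : f2 v z = 0 := O.h2.symm0 hz
  obtain ⟨g, hg, hfix, hq⟩ := h z hz
  let Γ : MV →ₗ[F] MV := lm R ∘ₗ dl O v z 0
  have hΓ : ∀ c x, Γ (vecMulVec c x) = vecMulVec (R c) (dv O v z 0 x) := fun c x => by
    show lm R (dl O v z 0 (vecMulVec c x)) = _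
    rw [dl_pure, lm_pure, dv_apply]
  have hΓv : ∀ d, Γ (vecMulVec d v) = 0 := fun d => by
    rw [hΓ, dv_apply, O.h2.self, hvz, mul_zero, zero_smul, zero_smul, add_zero, add_zero, vmv_zero]
  have hskew : ∀ X Y, f (Γ X) Y = -f X (Γ Y) := fun X Y => by
    refine ext_pure (A := flin O Y ∘ₗ Γ) (B := -flin O (Γ Y)) (fun c x => ?_) X
    show f (Γ (vecMulVec c x)) Y = -f (vecMulVec c x) (Γ Y)
    rw [f_comm O, f_comm O (Γ Y)]
    refine ext_pure (A := flin O (Γ (vecMulVec c x))) (B := -(flin O (vecMulVec c x) ∘ₗ Γ)) (fun d w => ?_) Y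
    show f (vecMulVec d w) (Γ (vecMulVec c x)) = -f (Γ (vecMulVec d w)) (vecMulVec c x)
    rw [hΓ, hΓ, O.f_pure, O.f_pure, dv_skew O, hRx, hRx, O.h1.add_left, O.h1.add_right, O.h1.smul_left,
      O.h1.smul_left, O.h1.smul_right, O.h1.smul_right, hsym1 c u, hsym1 c y]
    ring
  obtain ⟨T, hT, hTalt⟩ := decomp O hg hv hfix Γ hΓv hskew
    (fun d x hx => by
      rw [hΓ, dv_apply, hx, mul_zero, zero_smul, zero_smul, zero_add, add_zero, vmv_smul]
      exact (Col v).smul_mem _ (mem_col.2 ⟨_, rfl⟩))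
    (fun c x hx => by
      rw [hq c x hx, hΓ, dv_apply, hx, mul_zero, zero_smul, zero_smul, zero_add, add_zero, vmv_smul,
        smul_vecMulVec])
    (Q_gamma O Γ hskew (fun c x => by rw [hΓ, hΓ, hRR, zero_vecMulVec])
      (fun c x => by
        rw [hΓ, O.f_pure, hRx, O.h1.add_right, O.h1.smul_right, O.h1.smul_right]
        linear_combination (f1 c y * f1 c u * f2 x (dv O v z 0 x)) * h2)
      (fun c x => by rw [hΓ, O.Q_pure]))
  obtain ⟨γ, hγ⟩ : ∃ γ : F, ∃ s : F, ∀ c, T c = s • c + γ • R c := by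
    obtain ⟨W, hW, -⟩ := O.h1.finrank_perp_le ![u, y]
    obtain ⟨s, hs⟩ := O.h1.scalar_of_eigen (W := W) (T := T) fun p hp =>
      eigen_of_comm O hA h4 hg hv Γ hΓv hT fun e he X => by
        have hup : f1 p u = 0 := (hW p).1 hp 0
        have hyp : f1 p y = 0 := (hW p).1 hp 1
        refine ext_pure (A := e.toLinearMap ∘ₗ Γ) (B := Γ ∘ₗ e.toLinearMap) (fun c x => ?_) X
        show e (Γ (vecMulVec c x)) = Γ (e (vecMulVec c x))
        rw [hΓ, he, he, hΓ]
        congr 1
        simp only [hRx, map_add, map_smul, O.h1.add_left, O.h1.smul_left, hup, hyp, O.h1.symm0 hup,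
          O.h1.symm0 hyp, O.h1.self, mul_zero, zero_smul, add_zero, smul_zero]
    obtain ⟨a₀, ha₀, hua₀⟩ := O.h1.exists_perp_ne hu hyn
    -- duals
    obtain ⟨a, hau, hay⟩ : ∃ a, f1 a u = 1 ∧ f1 a y = 0 := by
      obtain ⟨x, hx, hxu⟩ := O.h1.exists_perp_ne (x := u)
        (fun e => hyn (by rw [e]; exact zero_mem _) : y ≠ 0) (fun hm => by
          obtain ⟨t, ht⟩ := Submodule.mem_span_singleton.1 hm
          refine hyn (Submodule.mem_span_singleton.2 ⟨t⁻¹, ?_⟩)
          rw [← ht, smul_smul, inv_mul_cancel₀ (fun e : t = 0 => hu (by rw [← ht, e, zero_smul])), one_smul])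
      refine ⟨(f1 x u)⁻¹ • x, ?_, by rw [O.h1.smul_left, hx, mul_zero]⟩
      rw [O.h1.smul_left, inv_mul_cancel₀ (O.h1.symm_ne hxu)]
    obtain ⟨b, hby, hbu⟩ : ∃ b, f1 b y = 1 ∧ f1 b u = 0 := by
      refine ⟨(f1 a₀ y)⁻¹ • a₀, ?_, by rw [O.h1.smul_left, ha₀, mul_zero]⟩
      rw [O.h1.smul_left, inv_mul_cancel₀ (O.h1.symm_ne hua₀)]
    have hTs : ∀ x, f1 (T x - s • x) x = 0 := fun x => by
      rw [O.h1.sub_left, O.h1.smul_left, hTalt, O.h1.self, mul_zero, sub_zero]
    set T' := T - s • LinearMap.id with hT'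
    have hTx : ∀ x, T' x = T x - s • x := fun x => rfl
    have hadj := O.h1.alt_adj (T := T') hTs
    have hP : ∀ p, f1 p u = 0 → f1 p y = 0 → T' p = 0 := fun p hp hp' => by
      rw [hTx, hs p ((hW p).2 fun i => by fin_cases i <;> assumption), sub_self]
    have hx0 : ∀ x, T' x = f1 x u • T' a + f1 x y • T' b := fun x => by
      have h := hP (x - f1 x u • a - f1 x y • b)
        (by rw [O.h1.sub_left, O.h1.sub_left, O.h1.smul_left, O.h1.smul_left, hau, hbu]; ring)
        (by rw [O.h1.sub_left, O.h1.sub_left, O.h1.smul_left, O.h1.smul_left, hay, hby]; ring)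
      rwa [map_sub, map_sub, map_smul, map_smul, sub_sub, sub_eq_zero] at h
    refine ⟨f1 (T' a) b, s, fun c => sub_eq_iff_eq_add'.1 ((hTx c).symm.trans (O.h1.ext_left fun x => ?_))⟩
    rw [hadj, hx0 x, O.h1.smul_left, hRx, O.h1.add_left, O.h1.smul_left, O.h1.smul_left, O.h1.add_right,
      O.h1.smul_right, O.h1.smul_right, hsym1 x u, hsym1 x y]
    have e1 : f1 c (T' a) = f1 c y * f1 (T' a) b := by
      rw [← hadj, hx0 c, O.h1.add_left, O.h1.smul_left, O.h1.smul_left, show f1 (T' a) a = 0 from hTs a,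
        hadj b a, hsym1 (T' a) b]
      ring
    have e2 : f1 c (T' b) = f1 c u * f1 (T' a) b := by
      rw [← hadj, hx0 c, O.h1.add_left, O.h1.smul_left, O.h1.smul_left, show f1 (T' b) b = 0 from hTs b]
      ring
    rw [e1, e2]
    ring
  obtain ⟨s, hTc⟩ := hγ
  obtain ⟨t, ht, htX, -⟩ := tv O v (-s)
  have hg1 : ∀ c x, (g * t) (vecMulVec c x) = vecMulVec c x + vecMulVec (R c) (dv O v z γ x) := fun c x => by
    rw [LinearEquiv.mul_apply, htX, hT, map_add Γ, map_smul Γ, hΓv, hΓ, map_add (cv O v), map_smul (cv O v),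
      cv_pure, cv_pure, O.h2.self, zero_smul, smul_zero, add_zero, hTc, dv_apply, dv_apply,
      zero_mul, zero_smul, add_zero]
    simp only [map_add, map_smul, map_zero, add_vecMulVec, smul_vecMulVec, vecMulVec_add, vmv_smul,
      smul_smul, smul_zero, add_zero]
    module
  exact rr_pair O h2 hv hu huy hyn hzn hz (mul_mem hg ht) hg1

/-- An element of the radical that is not pure gives a Siegel element to start from. -/
theorem exit (hex : Ex f2 G) : TypeA f1 Q f G ∨ TypeB f2 Q f G := by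
  by_cases hA : ∀ x : κ → F, x ≠ 0 → ∀ T, InG O x T → ∃ s : F, ∀ c, T c = s • c
  swap
  · push Not at hA
    obtain ⟨x, hx, T, hT, hns⟩ := hA
    exact Or.inl (typeA_of_ing O hx hT fun ⟨s, hs⟩ => by
      obtain ⟨c, hc⟩ := hns s
      exact hc (hs c))
  refine Or.inr ?_
  obtain ⟨v, hv, S, hall, hns, σ, hσ⟩ := exists_all O hA hex
  have htwo := O.two
  by_cases hκ : ∃ u, f1 (S u) u ≠ 0
  · obtain ⟨u, hκ⟩ := hκ
    have hu : u ≠ 0 := fun e => hκ (by rw [e, O.h1.zero_right])
    by_cases ht : ∃ t : F, t ≠ 0 ∧ t ≠ 1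
    · obtain ⟨t, ht0, ht1⟩ := ht
      refine typeB_of_kk O hA hv hu ?_
      have hd : (t - t ^ 2) * f1 (S u) u ≠ 0 := mul_ne_zero
        (by rw [show t - t ^ 2 = t * (1 - t) by ring]
            exact mul_ne_zero ht0 (sub_ne_zero.2 (Ne.symm ht1))) hκ
      have h := all_smul O (all_add O (all_diff O hall hσ u t)
        (all_neg O (all_smul O (all_diff O hall hσ u 1) t))) ((t - t ^ 2) * f1 (S u) u)⁻¹
      convert h using 1
      conv_lhs => rw [← one_smul F (O.h1.kk u), ← inv_mul_cancel₀ hd, mul_smul]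
      congr 1
      module
    · push Not at ht
      have h2 : (2 : F) = 0 := by
        have := ht (-1) (neg_ne_zero.2 one_ne_zero)
        linear_combination -this
      have h4 : 4 ≤ Fintype.card ι := by
        rcases O.four with h | h
        · rcases O.small with h' | ⟨t, ht0, ht1⟩
          · exact absurd h h'
          · exact absurd (ht t ht0) ht1
        · exact h
      set y := S u with hy
      have hκ1 : f1 y u = 1 := ht _ hκ
      have huy : f1 u y = 1 := by rw [O.h1.swap, hκ1]; linear_combination -h2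
      have hd1 := all_diff O hall hσ u 1
      set S' := (1 * σ - 1 ^ 2 * f1 (S u) u) • O.h1.kk u
        - (1 : F) • ((O.h1.lin u).smulRight (S u) + (O.h1.lin (S u)).smulRight u) with hS'
      have hS'x : ∀ c, S' c = (σ - 1) • f1 c u • u - (f1 c u • y + f1 c y • u) := fun c => by
        rw [hS', ← hy, hκ1, one_mul, one_pow, one_mul, one_smul]
        rfl
      obtain ⟨p', hp', hp'0⟩ := O.h1.exists_perp_notMem ![u, y]
        (by rw [Module.finrank_fintype_fun_eq_card]; omega) 0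
      rw [Submodule.span_zero_singleton, Submodule.mem_bot] at hp'0
      have hpu : f1 p' u = 0 := hp' 0
      have hpy : f1 p' y = 0 := hp' 1
      set p := u + p' with hp
      have hpu' : f1 p u = 0 := by rw [hp, O.h1.add_left, O.h1.self, hpu, add_zero]
      have hpy' : f1 p y = 1 := by rw [hp, O.h1.add_left, huy, hpy, add_zero]
      have hup : f1 u p = 0 := O.h1.symm0 hpu'
      have hpn : p ∉ F ∙ u := fun hm => hp'0 (by
        obtain ⟨r, hr⟩ := Submodule.mem_span_singleton.1 hm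
        have e : p' = (r - 1) • u := by rw [sub_smul, one_smul, hr, hp, add_sub_cancel_left]
        rw [e, O.h1.smul_left, huy, mul_one] at hpy
        rw [e, hpy, zero_smul])
      have hS'p : S' p = u := by
        rw [hS'x, hpu', hpy', zero_smul, smul_zero, zero_smul, one_smul, zero_add, zero_sub,
          ← neg_one_smul F u, show (-1 : F) = 1 by linear_combination -h2, one_smul]
      refine typeB_of_rr O hA h2 h4 hv hu hup hpn ?_
      have hd2 := all_diff O hd1 (σ := 0) (fun c d => by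
        rw [hS'x, hS'x]
        simp only [O.h1.sub_left, O.h1.sub_right, O.h1.add_left, O.h1.add_right, O.h1.smul_left,
          O.h1.smul_right]
        rw [O.h1.swap d u, O.h1.swap d y]
        ring) p 1
      rw [hS'p, hup] at hd2
      convert hd2 using 1
      refine LinearMap.ext fun c => ?_
      simp only [LinearMap.add_apply, LinearMap.sub_apply, LinearMap.smul_apply, LinearMap.smulRight_apply,
        AForm.lin_apply]
      match_scalars <;> grind
  push Not at hκ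
  have hadj := O.h1.alt_adj hκ
  by_cases h2 : (2 : F) = 0
  swap
  · refine absurd ⟨σ / 2, fun c => O.h1.ext_left fun d => ?_⟩ hns
    rw [O.h1.smul_left, div_mul_eq_mul_div, eq_div_iff h2]
    linear_combination hσ c d + hadj c d
  have hσ0 : σ = 0 := by
    obtain ⟨i⟩ : Nonempty ι := Fintype.card_pos_iff.1 (by omega)
    obtain ⟨d, hd⟩ := O.h1.exists_right (x := (Pi.single i 1 : ι → F)) (by simp)
    have h := hσ (Pi.single i 1) d
    rw [← hadj, hd] at h
    linear_combination -h + f1 (S (Pi.single i 1)) d * h2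
  rcases O.four with h | h4
  · exact absurd (O.h1.alt_two (by rw [Module.finrank_fintype_fun_eq_card, h]) hκ) hns
  obtain ⟨u, hu⟩ : ∃ u, S u ∉ F ∙ u := by
    by_contra hc
    push Not at hc
    obtain ⟨s, hs⟩ := O.h1.scalar_of_eigen (W := ⊤) fun x _ => hc x
    exact hns ⟨s, fun c => hs c Submodule.mem_top⟩
  have hu0 : u ≠ 0 := fun e => hu (by rw [e, map_zero]; exact zero_mem _)
  refine typeB_of_rr O hA h2 h4 hv hu0 (O.h1.symm0 (hκ u)) hu ?_
  have hd := all_diff O hall hσ u 1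
  rw [hκ u, hσ0] at hd
  convert hd using 1
  refine LinearMap.ext fun c => ?_
  simp only [LinearMap.add_apply, LinearMap.sub_apply, LinearMap.smul_apply, LinearMap.smulRight_apply,
    AForm.lin_apply, AForm.kk_apply]
  match_scalars <;> grind

end

end CfsgLib.MaxSub.TensorSymp
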