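/-
The Siegel elements to start from generate all of them.
-/
import Cfsg.Agent.Lib.MaxSub.TensorSymp.Pattern

set_option autoImplicit false
set_option maxHeartbeats 400000
set_option linter.unusedSectionVars false

namespace CfsgLib.MaxSub.TensorSymp

open Matrix Module
open CfsgLib.MaxSub.TensorLin (Col colMap colMap_apply mem_col vmv_eq_zero vmv_zero)

variable {F : Type*} [Field F]
variable {ι κ : Type*} [Fintype ι] [Fintype κ] [DecidableEq ι] [DecidableEq κ]
variable {f1 : (ι → F) → (ι → F) → F} {f2 : (κ → F) → (κ → F) → F} {Q : Matrix ι κ F → F}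
  {f : Matrix ι κ F → Matrix ι κ F → F} {G : Subgroup (Matrix ι κ F ≃ₗ[F] Matrix ι κ F)}

local notation "MV" => Matrix ι κ F

section

variable (O : TS f1 f2 Q f G)
include O

theorem ws_map {E W : MV} (hE : Q E = 0) (h : W ∈ WS O hE) {g : MV ≃ₗ[F] MV} (hg : g ∈ G)
    (hgE : g E = E) : g W ∈ WS O hE := fun s => by
  have := inW_conj O (h s) hg
  rwa [hgE, map_smul] at this

/-- Siegel elements moving the first factor give those moving the second. -/
theorem typeB_of_typeA (h : TypeA f1 Q f G) : TypeB f2 Q f G := by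
  obtain ⟨u, c₁, v₁, hu, hv₁, hc₁u, hc₁n, hW⟩ := h
  have hsp : ∀ c, f1 c u = 0 → InW Q f G (vecMulVec u v₁) (vecMulVec c v₁) := fun c hc => by
    refine O.h1.spread hu hc₁u hc₁n (fun c => InW Q f G (vecMulVec u v₁) (vecMulVec c v₁))
      (fun a b _ _ ha hb => ?_) (fun a _ ha => ?_) (fun a p l _ hp ha => ?_) hW hc
    · rw [add_vecMulVec]
      exact inW_add O (O.Q_pure _ _) ha hb
    · rw [neg_vmv]
      exact inW_neg O (O.Q_pure _ _) ha
    · obtain ⟨e, he, heX⟩ := O.tvL p l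
      have h1 := inW_conj O ha he
      rwa [heX, heX, O.h1.symm0 hp, mul_zero, zero_smul, add_zero] at h1
  have hall : ∀ x, x ≠ 0 → ∀ c, f1 c u = 0 → InW Q f G (vecMulVec u x) (vecMulVec c x) := fun x hx => by
    refine O.h2.move hv₁ hx (fun x => ∀ c, f1 c u = 0 → InW Q f G (vecMulVec u x) (vecMulVec c x))
      (fun a p l ha c hc => ?_) hsp
    obtain ⟨e, he, heX⟩ := O.tvR p l
    have h1 := inW_conj O (ha c hc) he
    rwa [heX, heX] at h1
  obtain ⟨v, hv⟩ : ∃ v : κ → F, v ≠ 0 := ⟨v₁, hv₁⟩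
  have hb := O.six
  obtain ⟨z, hz', hzn⟩ := O.h2.exists_perp_notMem ![v]
    (by rw [Module.finrank_fintype_fun_eq_card]; omega) v
  obtain ⟨c₀, hc₀u, hc₁c₀⟩ := O.h1.exists_perp_ne hu hc₁n
  set L := WS O (O.Q_pure u v) with hL
  have hc₀ : vecMulVec c₀ v ∈ L := fun s => by
    rw [← smul_vecMulVec]
    exact hall v hv _ (by rw [O.h1.smul_left, hc₀u, mul_zero])
  have gain : ∀ x, f2 v x ≠ 0 → vecMulVec u x ∈ L := fun x hvx => by
    have hx : x ≠ 0 := fun e => hvx (by rw [e, O.h2.zero_right])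
    obtain ⟨-, g, hg, hgX⟩ := hall x hx c₁ hc₁u
    have hgE : g (vecMulVec u v) = vecMulVec u v := by
      rw [hgX, O.Q_pure, O.f_pure, O.f_pure, O.h1.self, O.h1.symm0 hc₁u]
      simp
    have h1 := L.sub_mem (ws_map O (O.Q_pure u v) hc₀ hg hgE) hc₀
    rw [hgX, O.Q_pure, O.f_pure, O.f_pure, hc₀u, zero_mul, zero_mul, zero_smul, zero_smul, add_zero,
      sub_zero, sub_sub_cancel_left, ← neg_smul] at h1
    exact (Submodule.smul_mem_iff L (neg_ne_zero.2 (mul_ne_zero (O.h1.symm_ne hc₁c₀) hvx))).1 h1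
  obtain ⟨x, hx⟩ := O.h2.exists_right hv
  have h1 := L.sub_mem (gain (x + z) (by rw [O.h2.add_right, hx, O.h2.symm0 (show f2 z v = 0 from hz' 0), add_zero]; exact one_ne_zero))
    (gain x (by rw [hx]; exact one_ne_zero)) 1
  rw [one_smul, ← vmv_sub, add_sub_cancel_left] at h1
  exact ⟨u, v, z, hu, hv, hz' 0, hzn, h1⟩

/-- Siegel elements moving the second factor, everywhere. -/
theorem typeB_gen (h : TypeB f2 Q f G) {u : ι → F} {v z : κ → F} (hu : u ≠ 0) (hv : v ≠ 0)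
    (hz : f2 z v = 0) : InW Q f G (vecMulVec u v) (vecMulVec u z) := by
  obtain ⟨u₁, v₁, z₁, hu₁, hv₁, hz₁, hzn₁, hW⟩ := h
  have hsp : ∀ z, f2 z v₁ = 0 → InW Q f G (vecMulVec u₁ v₁) (vecMulVec u₁ z) := fun z hz => by
    refine O.h2.spread hv₁ hz₁ hzn₁ (fun z => InW Q f G (vecMulVec u₁ v₁) (vecMulVec u₁ z))
      (fun a b _ _ ha hb => ?_) (fun a _ ha => ?_) (fun a p l _ hp ha => ?_) hW hz
    · rw [vecMulVec_add]
      exact inW_add O (O.Q_pure _ _) ha hb
    · rw [vmv_neg]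
      exact inW_neg O (O.Q_pure _ _) ha
    · obtain ⟨e, he, heX⟩ := O.tvR p l
      have h1 := inW_conj O ha he
      rwa [heX, heX, O.h2.symm0 hp, mul_zero, zero_smul, add_zero] at h1
  have hall : ∀ z, f2 z v = 0 → InW Q f G (vecMulVec u₁ v) (vecMulVec u₁ z) :=
    O.h2.move hv₁ hv (fun x => ∀ z, f2 z x = 0 → InW Q f G (vecMulVec u₁ x) (vecMulVec u₁ z))
      (fun a p l ha z hz => by
        obtain ⟨e, he, heX⟩ := O.tvR p l
        set w := z - (l * f2 z p) • p with hw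
        have hwz : w + (l * f2 w p) • p = z := by
          rw [hw, O.h2.sub_left, O.h2.smul_left, O.h2.self, mul_zero, sub_zero, sub_add_cancel]
        have hwa : f2 w a = 0 := by rw [← O.h2.tv_isom p l, hwz, hz]
        have h1 := inW_conj O (ha w hwa) he
        rwa [heX, heX, hwz] at h1) hsp
  refine O.h1.move hu₁ hu (fun c => InW Q f G (vecMulVec c v) (vecMulVec c z)) (fun a p l ha => ?_)
    (hall z hz)
  obtain ⟨e, he, heX⟩ := O.tvL p l
  have h1 := inW_conj O ha he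
  rwa [heX, heX] at h1

/-- The Siegel group of a pure tensor is complete. -/
theorem ws_full (hB : TypeB f2 Q f G) {u : ι → F} (hu : u ≠ 0) {v : κ → F} (hv : v ≠ 0) {W : MV}
    (hW : f W (vecMulVec u v) = 0) : W ∈ WS O (O.Q_pure u v) := by
  set L := WS O (O.Q_pure u v) with hL
  have hb := O.six
  have h0 : ∀ z, f2 z v = 0 → vecMulVec u z ∈ L := fun z hz s => by
    rw [← vmv_smul]
    exact typeB_gen O hB hu hv (by rw [O.h2.smul_left, hz, mul_zero])
  -- first factor arbitrary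
  have h1 : ∀ c, f1 u c ≠ 0 → ∀ z, f2 z v = 0 → z ∉ F ∙ v → vecMulVec c z ∈ L := by
    intro c huc z hzv hzn
    have hc : c ≠ 0 := fun e => huc (by rw [e, O.h1.zero_right])
    have hz : z ≠ 0 := fun e => hzn (by rw [e]; exact zero_mem _)
    have hvn : v ∉ F ∙ z := fun hm => by
      obtain ⟨r, hr⟩ := Submodule.mem_span_singleton.1 hm
      refine hzn (Submodule.mem_span_singleton.2 ⟨r⁻¹, ?_⟩)
      rw [← hr, smul_smul, inv_mul_cancel₀ (fun e : r = 0 => hv (by rw [← hr, e, zero_smul])), one_smul]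
    obtain ⟨a, ha, hva⟩ := O.h2.exists_perp_ne hz hvn
    obtain ⟨b, hbv, hzb⟩ := O.h2.exists_perp_ne hv hzn
    obtain ⟨w, hw', hw0⟩ := O.h2.exists_perp_notMem ![v, z, a, b]
      (by rw [Module.finrank_fintype_fun_eq_card]; omega) 0
    rw [Submodule.span_zero_singleton, Submodule.mem_bot] at hw0
    have hwv : f2 w v = 0 := hw' 0
    have hwz : f2 w z = 0 := hw' 1
    have hwa : f2 w a = 0 := hw' 2
    have hwb : f2 w b = 0 := hw' 3
    obtain ⟨y, hy⟩ := O.h2.exists_left hw0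
    set x := y - (f2 y v / f2 a v) • a - (f2 y z / f2 b z) • b with hx
    have hxv : f2 x v = 0 := by
      rw [hx, O.h2.sub_left, O.h2.sub_left, O.h2.smul_left, O.h2.smul_left, hbv,
        div_mul_cancel₀ _ (O.h2.symm_ne hva)]
      ring
    have hxz : f2 x z = 0 := by
      rw [hx, O.h2.sub_left, O.h2.sub_left, O.h2.smul_left, O.h2.smul_left, ha,
        div_mul_cancel₀ _ (O.h2.symm_ne hzb)]
      ring
    have hxw : f2 x w = 1 := by
      rw [hx, O.h2.sub_left, O.h2.sub_left, O.h2.smul_left, O.h2.smul_left, O.h2.symm0 hwa, O.h2.symm0 hwb,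
        hy]
      ring
    obtain ⟨-, g, hg, hgX⟩ := typeB_gen O hB hc hz hwz
    have hgE : g (vecMulVec u v) = vecMulVec u v := by
      rw [hgX, O.Q_pure, O.f_pure, O.f_pure, O.h2.symm0 hzv, O.h2.symm0 hwv]
      simp
    have h1 := L.sub_mem (ws_map O (O.Q_pure u v) (h0 x hxv) hg hgE) (h0 x hxv)
    rw [hgX, O.Q_pure, O.f_pure, O.f_pure, hxz, mul_zero, zero_mul, zero_smul, zero_smul, add_zero,
      sub_zero, hxw, mul_one, sub_sub_cancel_left, ← neg_smul] at h1
    exact (Submodule.smul_mem_iff L (neg_ne_zero.2 huc)).1 h1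
  have h2 : ∀ c, f1 u c ≠ 0 → ∀ z, f2 z v = 0 → vecMulVec c z ∈ L := by
    intro c hc z hz
    by_cases hzn : z ∈ F ∙ v
    · obtain ⟨t, ht', htn⟩ := O.h2.exists_perp_notMem ![v]
        (by rw [Module.finrank_fintype_fun_eq_card]; omega) v
      have h := L.sub_mem (h1 c hc (z + t) (by rw [O.h2.add_left, hz, show f2 t v = 0 from ht' 0, add_zero]) fun hm =>
        htn (by simpa using Submodule.sub_mem _ hm hzn)) (h1 c hc t (ht' 0) htn)
      rwa [← vmv_sub, add_sub_cancel_right] at h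
    · exact h1 c hc z hz hzn
  have h3 : ∀ c z, f2 z v = 0 → vecMulVec c z ∈ L := by
    intro c z hz
    by_cases hc : f1 u c = 0
    · obtain ⟨c₁, hc₁⟩ := O.h1.exists_right hu
      have h := L.sub_mem (h2 (c + c₁) (by rw [O.h1.add_right, hc, hc₁, zero_add]; exact one_ne_zero) z hz)
        (h2 c₁ (by rw [hc₁]; exact one_ne_zero) z hz)
      rwa [← sub_vmv, add_sub_cancel_right] at h
    · exact h2 c hc z hz
  have h4 : ∀ c, f1 c u = 0 → ∀ x, f2 v x ≠ 0 → vecMulVec c x ∈ L := by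
    intro c hcu x hvx
    rcases eq_or_ne c 0 with rfl | hc
    · rw [zero_vecMulVec]; exact L.zero_mem
    have hx : x ≠ 0 := fun e => hvx (by rw [e, O.h2.zero_right])
    obtain ⟨z, hz', hz0⟩ := O.h2.exists_perp_notMem ![v, x]
      (by rw [Module.finrank_fintype_fun_eq_card]; omega) 0
    rw [Submodule.span_zero_singleton, Submodule.mem_bot] at hz0
    have hzv : f2 z v = 0 := hz' 0
    have hzx : f2 z x = 0 := hz' 1
    have hzn : z ∉ F ∙ x := fun hm => hz0 (by
      obtain ⟨t, rfl⟩ := Submodule.mem_span_singleton.1 hm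
      rw [O.h2.smul_left] at hzv
      rw [(mul_eq_zero.1 hzv).resolve_right (O.h2.symm_ne hvx), zero_smul])
    obtain ⟨x₂, hx₂x, hzx₂⟩ := O.h2.exists_perp_ne hx hzn
    obtain ⟨d, hd⟩ := O.h1.exists_left hc
    obtain ⟨-, g, hg, hgX⟩ := typeB_gen O hB hc hx hx₂x
    have hgE : g (vecMulVec u v) = vecMulVec u v := by
      rw [hgX, O.Q_pure, O.f_pure, O.f_pure, O.h1.symm0 hcu]
      simp
    have h1 := L.sub_mem (ws_map O (O.Q_pure u v) (h3 d z hzv) hg hgE) (h3 d z hzv)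
    rw [hgX, O.Q_pure, O.f_pure, O.f_pure, hzx, mul_zero, zero_mul, zero_smul, zero_smul, add_zero,
      sub_zero, hd, one_mul, sub_sub_cancel_left, ← neg_smul] at h1
    exact (Submodule.smul_mem_iff L (neg_ne_zero.2 hzx₂)).1 h1
  -- decomposition
  obtain ⟨u', hu'u⟩ := O.h1.exists_left hu
  obtain ⟨x', hx'v⟩ := O.h2.exists_left hv
  let Pr : MV →ₗ[F] MV := LinearMap.id - (flin O (vecMulVec u v)).smulRight (vecMulVec u' x')
  have hP : ∀ X, Pr X = X - f X (vecMulVec u v) • vecMulVec u' x' := fun X => rfl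
  have hpure : ∀ c z, Pr (vecMulVec c z) ∈ L := fun c z => by
    set c₀ := c - f1 c u • u' with hc₀
    set z₀ := z - f2 z v • x' with hz₀
    have hc₀u : f1 c₀ u = 0 := by rw [hc₀, O.h1.sub_left, O.h1.smul_left, hu'u, mul_one, sub_self]
    have hz₀v : f2 z₀ v = 0 := by rw [hz₀, O.h2.sub_left, O.h2.smul_left, hx'v, mul_one, sub_self]
    have e : Pr (vecMulVec c z) = vecMulVec c z₀ + f2 z v • vecMulVec c₀ x' := by
      rw [hP, O.f_pure, hc₀, hz₀, vmv_sub, sub_vmv, vmv_smul, smul_vecMulVec, smul_sub, smul_smul,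
        mul_comm]
      abel
    rw [e]
    exact L.add_mem (h3 c z₀ hz₀v) (L.smul_mem _ (h4 c₀ hc₀u x'
      (O.h2.symm_ne (by rw [hx'v]; exact one_ne_zero))))
  have := ext_pure (A := L.mkQ ∘ₗ Pr) (B := 0) (fun c z => by
    show L.mkQ (Pr (vecMulVec c z)) = 0
    rw [Submodule.mkQ_apply, Submodule.Quotient.mk_eq_zero]
    exact hpure c z) W
  rw [LinearMap.comp_apply, hP, hW, zero_smul, sub_zero, Submodule.mkQ_apply, LinearMap.zero_apply,
    Submodule.Quotient.mk_eq_zero] at this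
  exact this

/-- All Siegel elements. -/
theorem siegel_all (hex : Ex f2 G) {Y W : MV} (hY : Q Y = 0) (hW : f W Y = 0) : InW Q f G Y W := by
  have hB : TypeB f2 Q f G := (exit O hex).elim (typeB_of_typeA O) id
  have hpure : ∀ u v, u ≠ 0 → v ≠ 0 → ∀ W, f W (vecMulVec u v) = 0 → InW Q f G (vecMulVec u v) W :=
    fun u v hu hv W hW => by
      have h := ws_full O hB hu hv hW 1
      rwa [one_smul] at h
  rcases eq_or_ne Y 0 with rfl | hY0
  · exact ⟨fzr O W, 1, one_mem G, fun X => by simp [fzr O]⟩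
  obtain ⟨c, x, hcx⟩ : ∃ c x, f Y (vecMulVec c x) ≠ 0 := by
    by_contra hc
    push Not at hc
    refine hY0 (O.f_nondeg Y fun X => ?_)
    rw [f_comm O]
    exact ext_pure (A := flin O Y) (B := 0) (fun c x => (f_comm O _ _).trans (hc c x)) X
  set u := (f Y (vecMulVec c x))⁻¹ • c with hu
  have hYE : f Y (vecMulVec u x) = 1 := by rw [hu, smul_vecMulVec, fsr O, inv_mul_cancel₀ hcx]
  have hu0 : u ≠ 0 := fun e => one_ne_zero (by rw [← hYE, e, zero_vecMulVec, fzr O] : (1 : F) = 0)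
  have hx0 : x ≠ 0 := fun e => hcx (by rw [e, vmv_zero, fzr O])
  obtain ⟨u', hu'⟩ := O.h1.exists_left hu0
  obtain ⟨x', hx'⟩ := O.h2.exists_left hx0
  set E := vecMulVec u x with hE
  set Y₀ := vecMulVec u' x' with hY₀
  have hY₀E : f Y₀ E = 1 := by rw [hY₀, hE, O.f_pure, hu', hx', mul_one]
  obtain ⟨-, g, hg, hgX⟩ := hpure u x hu0 hx0 (Y - Y₀) (by rw [fsubl O, hYE, hY₀E, sub_self])
  set ν := -f Y₀ (Y - Y₀) - Q (Y - Y₀) with hν
  have hg0 : g Y₀ = Y + ν • E := by
    rw [hgX, ← hE, hY₀E, hν, one_smul, mul_one, sub_smul, neg_smul]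
    abel
  have hν0 : ν = 0 := by
    have h1 := O.isomQ g hg Y₀
    rw [hg0, O.Q_add, O.Q_smul, fsr O, hY, hYE, hY₀, O.Q_pure, O.Q_pure] at h1
    linear_combination h1
  rw [hν0, zero_smul, add_zero] at hg0
  have hu'0 : u' ≠ 0 := O.h1.ne_zero_left (y := u) (by rw [hu']; exact one_ne_zero)
  have hx'0 : x' ≠ 0 := O.h2.ne_zero_left (y := x) (by rw [hx']; exact one_ne_zero)
  have h1 := inW_conj O (hpure u' x' hu'0 hx'0 (g.symm W) (by rw [isom_symm O hg, ← hY₀, hg0, hW])) hg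
  rwa [← hY₀, hg0, g.apply_symm_apply] at h1

end

end CfsgLib.MaxSub.TensorSymp
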