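/-
Stabilisers of tensor products of two symplectic spaces in orthogonal groups of plus type are maximal.
-/
import Cfsg.Agent.Lib.MaxSub.TensorSymp.Climb
import Cfsg.Agent.Lib.MaxSub.TensorSymp.Gen
import Cfsg.Agent.Lib.MaxSub.TensorLin.Main
import Cfsg.Agent.Lib.MaxSub.SubspaceMaximalOrthGL
import Cfsg.Agent.Lib.Aschbacher.OrthEven.NotTensor
import Cfsg.Agent.Lib.Aschbacher.Forms

set_option autoImplicit false
set_option maxHeartbeats 400000
set_option linter.unusedSectionVars false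

namespace CfsgLib.MaxSub.TensorSymp

open Matrix Module
open CfsgLib.MaxSub.TensorLin (Col colMap colMap_apply mem_col vmv_eq_zero vmv_zero NP exists_dot_one
  exists_dot_pair flat mmap mmap_apply mmap_kron vm mvMap)
open CfsgLib.WittExtension (quadIso)
open CfsgLib.Eichler (Sieg IsSieg IsEich exists_eich sieg_eich)
open scoped Kronecker

section

variable {F : Type*} [Field F] {ι κ : Type*} [Fintype ι] [Fintype κ] [DecidableEq ι] [DecidableEq κ]
variable {f1 : (ι → F) → (ι → F) → F} {f2 : (κ → F) → (κ → F) → F} {Q : Matrix ι κ F → F}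
  {f : Matrix ι κ F → Matrix ι κ F → F} {G : Subgroup (Matrix ι κ F ≃ₗ[F] Matrix ι κ F)}

local notation "MV" => Matrix ι κ F

/-- An element moving a pure member to one that is not pure, or of pure type. -/
theorem exists_np (O : TS f1 f2 Q f G) {g : MV ≃ₗ[F] MV} (hg : g ∈ G)
    (hnot : ¬ ∃ (A : Matrix ι ι F) (B : Matrix κ κ F), ∀ X, g X = A * X * B) :
    ∃ W, Mem G W ∧ NP W := by
  by_contra hcon
  simp only [NP, not_exists, not_and, not_forall, not_not] at hcon
  have hpure : ∀ x : κ → F, x ≠ 0 → ∃ v, (Col x).map g.toLinearMap = Col (ι := ι) v :=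
    fun x hx => hcon _ ⟨g, hg, x, hx, rfl⟩
  have := O.two
  obtain ⟨i₀⟩ : Nonempty ι := Fintype.card_pos_iff.1 (by omega)
  choose! v hv using hpure
  have hmem : ∀ x, x ≠ 0 → ∀ c, g (vecMulVec c x) ∈ Col (ι := ι) (v x) := fun x hx c =>
    hv x hx ▸ ⟨_, mem_col.2 ⟨c, rfl⟩, rfl⟩
  have hv0 : ∀ x, x ≠ 0 → v x ≠ 0 := fun x hx h => by
    obtain ⟨c, hc⟩ := mem_col.1 (hmem x hx (Pi.single i₀ 1))
    rw [h, vmv_zero] at hc
    exact vmv_ne_zero (by simp) hx (g.map_eq_zero_iff.1 hc.symm)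
  choose! ρ hρ using fun x (hx : v x ≠ 0) => exists_dot_one hx
  let ψ : (κ → F) → (ι → F) →ₗ[F] (ι → F) := fun x => mvMap (ρ x) ∘ₗ g.toLinearMap ∘ₗ colMap x
  have hψ : ∀ x, x ≠ 0 → ∀ c, g (vecMulVec c x) = vecMulVec (ψ x c) (v x) := fun x hx c => by
    obtain ⟨c', hc'⟩ := mem_col.1 (hmem x hx c)
    show _ = vecMulVec (g (vecMulVec c x) *ᵥ ρ x) (v x)
    rw [← hc', vm, hρ x (hv0 x hx), one_smul]
  have hinj : ∀ x, x ≠ 0 → ∀ c, ψ x c = 0 → c = 0 := fun x hx c hc => by
    have := hψ x hx c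
    rw [hc, zero_vecMulVec, g.map_eq_zero_iff, vmv_eq_zero] at this
    exact this.resolve_right hx
  have hprop : ∀ x z, x ≠ 0 → z ∉ F ∙ x → ∃ t : F, ∀ c, ψ z c = t • ψ x c := by
    intro x z hx hzn
    have hz : z ≠ 0 := fun e => hzn (by rw [e]; exact zero_mem _)
    have hs0 : x + z ≠ 0 := fun e => hzn (by
      rw [eq_neg_of_add_eq_zero_right e]
      exact Submodule.neg_mem _ (Submodule.mem_span_singleton_self x))
    have hsep : v z ∉ F ∙ v x := fun hm => by
      obtain ⟨s, hs⟩ := Submodule.mem_span_singleton.1 hm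
      have h1 : g (vecMulVec (Pi.single i₀ 1) z) ∈ (Col x).map g.toLinearMap := by
        rw [hv x hx]
        exact mem_col.2 ⟨s • ψ z (Pi.single i₀ 1), by
          rw [hψ z hz, ← hs, vmv_smul, smul_vecMulVec]⟩
      obtain ⟨Y, hY, hYe⟩ := h1
      obtain ⟨d, rfl⟩ := mem_col.1 hY
      have he : vecMulVec d x = vecMulVec (Pi.single i₀ 1 : ι → F) z := g.injective hYe
      refine hzn (Submodule.mem_span_singleton.2 ⟨d i₀, funext fun j => ?_⟩)
      have := congrFun (congrFun he i₀) j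
      simpa [vecMulVec_apply] using this
    have hsep' : v x ∉ F ∙ v z := fun hm => hsep (by
      obtain ⟨s, hs⟩ := Submodule.mem_span_singleton.1 hm
      exact Submodule.mem_span_singleton.2 ⟨s⁻¹, by
        rw [← hs, smul_smul, inv_mul_cancel₀ fun e : s = 0 => hv0 x hx (by rw [← hs, e, zero_smul]),
          one_smul]⟩)
    obtain ⟨μ, hμ1, hμ2⟩ := exists_dot_pair hsep'
    obtain ⟨μ', hμ'1, hμ'2⟩ := exists_dot_pair hsep
    set v'' := v (x + z) with hv''
    have hd : ∀ c, vecMulVec (ψ (x + z) c) v''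
        = vecMulVec (ψ x c) (v x) + vecMulVec (ψ z c) (v z) := fun c => by
      rw [hv'', ← hψ _ hs0, ← hψ x hx, ← hψ z hz, vecMulVec_add, map_add]
    have e1 : ∀ c, ψ x c = (v'' ⬝ᵥ μ) • ψ (x + z) c := fun c => by
      have := congrArg (fun X : MV => X *ᵥ μ) (hd c)
      simpa [add_mulVec, vm, hμ1, hμ2] using this.symm
    have e2 : ∀ c, ψ z c = (v'' ⬝ᵥ μ') • ψ (x + z) c := fun c => by
      have := congrArg (fun X : MV => X *ᵥ μ') (hd c)
      simpa [add_mulVec, vm, hμ'1, hμ'2] using this.symm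
    have hne : v'' ⬝ᵥ μ ≠ 0 := fun h => by
      have := hinj x hx (Pi.single i₀ 1) (by rw [e1, h, zero_smul])
      simp at this
    exact ⟨(v'' ⬝ᵥ μ') * (v'' ⬝ᵥ μ)⁻¹, fun c => by
      rw [e1, e2, smul_smul, mul_assoc, inv_mul_cancel₀ hne, mul_one]⟩
  have hb := O.six
  obtain ⟨j₀⟩ : Nonempty κ := Fintype.card_pos_iff.1 (by omega)
  set x₀ : κ → F := Pi.single j₀ 1 with hx₀d
  have hx₀ : x₀ ≠ 0 := by simp [hx₀d]
  have hall : ∀ y, y ≠ 0 → ∃ t : F, ∀ c, ψ y c = t • ψ x₀ c := by
    intro y hy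
    by_cases hm : y ∈ F ∙ x₀
    · obtain ⟨z, hz', hzn⟩ := O.h2.exists_perp_notMem ![x₀]
        (by rw [Module.finrank_fintype_fun_eq_card]; omega) x₀
      have hz : z ≠ 0 := fun e => hzn (by rw [e]; exact zero_mem _)
      obtain ⟨t, ht⟩ := hprop x₀ z hx₀ hzn
      obtain ⟨t', ht'⟩ := hprop z y hz fun h => hzn (by
        obtain ⟨r, rfl⟩ := Submodule.mem_span_singleton.1 h
        have hr : r ≠ 0 := fun e => hy (by rw [e, zero_smul])
        have := Submodule.smul_mem _ r⁻¹ hm
        rwa [smul_smul, inv_mul_cancel₀ hr, one_smul] at this)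
      exact ⟨t' * t, fun c => by rw [ht', ht, smul_smul]⟩
    · exact hprop x₀ y hx₀ hm
  obtain ⟨η, hη⟩ := exists_dot_one
    (show ψ x₀ (Pi.single i₀ 1) ≠ 0 from fun h => by simpa using hinj x₀ hx₀ _ h)
  let L : (κ → F) →ₗ[F] (κ → F) :=
    { toFun := fun z => η ᵥ* g (vecMulVec (Pi.single i₀ 1) z)
      map_add' := fun a b => by rw [vecMulVec_add, map_add, vecMul_add]
      map_smul' := fun t a => by rw [vmv_smul, map_smul, vecMul_smul, RingHom.id_apply] }
  refine hnot ⟨LinearMap.toMatrix' (ψ x₀), (LinearMap.toMatrix' L)ᵀ, fun X => ?_⟩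
  refine ext_pure (A := g.toLinearMap) (B :=
    { toFun := fun X => LinearMap.toMatrix' (ψ x₀) * X * (LinearMap.toMatrix' L)ᵀ
      map_add' := fun a b => by rw [Matrix.mul_add, Matrix.add_mul]
      map_smul' := fun t a => by rw [Matrix.mul_smul, Matrix.smul_mul, RingHom.id_apply] }) (fun c z => ?_) X
  show g (vecMulVec c z) = LinearMap.toMatrix' (ψ x₀) * vecMulVec c z * (LinearMap.toMatrix' L)ᵀ
  rw [mul_vecMulVec, vecMulVec_mul, LinearMap.toMatrix'_mulVec, Matrix.vecMul_transpose,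
    LinearMap.toMatrix'_mulVec]
  rcases eq_or_ne z 0 with rfl | hz
  · rw [map_zero, vmv_zero, vmv_zero, map_zero]
  obtain ⟨t, ht⟩ := hall z hz
  show _ = vecMulVec (ψ x₀ c) (η ᵥ* g (vecMulVec (Pi.single i₀ 1) z))
  rw [hψ z hz, hψ z hz, ht, ht, vecMul_vecMulVec, dotProduct_smul, dotProduct_comm, hη,
    smul_vecMulVec, vmv_smul, smul_eq_mul, mul_one]

end

/-- Products of Eichler transformations along a singular space realise all self-adjoint alternating maps. -/
theorem tens_mem {F V W U : Type*} [Field F] [AddCommGroup V] [Module F V] [FiniteDimensional F V]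
    [Finite F] [AddCommGroup W] [Module F W] [AddCommGroup U] [Module F U] [FiniteDimensional F U]
    (R : QuadraticForm F V) (hR : (QuadraticMap.polarBilin R).Nondegenerate) (hn : 5 ≤ finrank F V)
    (Φ : W →ₗ[F] V) {g : U → U → F} (H : AForm g) (D : W →ₗ[F] U) (J : U →ₗ[F] W) {c : F} (hc : c ≠ 0)
    (hQJ : ∀ a, R (Φ (J a)) = 0) (hpol : ∀ X a, QuadraticMap.polar R (Φ X) (Φ (J a)) = c * g (D X) a)
    (hDJ : ∀ a, D (J a) = 0) (l : F) :
    ∃ γ ∈ Subgroup.closure (Sieg R), ∀ X, γ.1 (Φ X) = Φ (X + l • J (D X)) := by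
  suffices h : ∀ T : U →ₗ[F] U, (∀ x, g (T x) x = 0) →
      ∃ γ ∈ Subgroup.closure (Sieg R), ∀ X, γ.1 (Φ X) = Φ (X + J (T (D X))) by
    obtain ⟨γ, hγ, hγX⟩ := h (l • LinearMap.id) fun x => by
      rw [LinearMap.smul_apply, LinearMap.id_apply, H.smul_left, H.self, mul_zero]
    exact ⟨γ, hγ, fun X => by rw [hγX, LinearMap.smul_apply, LinearMap.id_apply, map_smul J]⟩
  intro T hT
  refine H.alt_induction (fun T => ∃ γ ∈ Subgroup.closure (Sieg R),
    ∀ X, γ.1 (Φ X) = Φ (X + J (T (D X)))) ?_ ?_ ?_ T hT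
  · exact ⟨1, one_mem _, fun X => by simp⟩
  · rintro S T ⟨γ, hγ, hγX⟩ ⟨δ, hδ, hδX⟩
    refine ⟨γ * δ, mul_mem hγ hδ, fun X => ?_⟩
    show γ.1 (δ.1 (Φ X)) = _
    rw [hδX, hγX, map_add D, hDJ, add_zero, LinearMap.add_apply, map_add J, add_assoc, add_comm (J (T _))]
  · intro a b
    by_cases he0 : Φ (J a) = 0
    · refine ⟨1, one_mem _, fun X => ?_⟩
      have h0 : g (D X) a = 0 := by
        have := hpol X a
        rw [he0, QuadraticMap.polar_zero_right] at this
        exact (mul_eq_zero.1 this.symm).resolve_left hc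
      show Φ X = _
      rw [LinearMap.sub_apply, LinearMap.smulRight_apply, LinearMap.smulRight_apply, H.lin_apply,
        H.lin_apply, h0, zero_smul, zero_sub, map_neg, map_smul, map_add, map_neg, map_smul, he0,
        smul_zero, neg_zero, add_zero]
    have hew : QuadraticMap.polar R (Φ (J a)) (c⁻¹ • Φ (J b)) = 0 := by
      rw [QuadraticMap.polar_smul_right, hpol, hDJ, H.zero_left, mul_zero, smul_zero]
    obtain ⟨γ, hγ⟩ := exists_eich R (hQJ a) hew
    refine ⟨γ, CfsgLib.OmegaSimple.eich_mem R hR hn he0 (hQJ a) hew hγ, fun X => ?_⟩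
    rw [hγ, QuadraticMap.map_smul, hQJ, smul_zero, zero_mul, sub_zero, QuadraticMap.polar_smul_left,
      QuadraticMap.polar_comm R (Φ (J a)), QuadraticMap.polar_comm R (Φ (J b)), hpol, hpol,
      LinearMap.sub_apply, LinearMap.smulRight_apply, LinearMap.smulRight_apply, H.lin_apply, H.lin_apply]
    simp only [smul_eq_mul, smul_smul, map_add, map_sub, map_smul, neg_smul]
    rw [show c * g (D X) a * c⁻¹ = g (D X) a by field_simp,
      show c⁻¹ * (c * g (D X) b) = g (D X) b by field_simp]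
    abel

variable {F : Type*} [Field F] [Fintype F] {a b n : ℕ}

/-- The matrix of a transvection. -/
theorem tv_matrix {m : ℕ} {h : (Fin m → F) → (Fin m → F) → F} (H : AForm h) (v : Fin m → F) (l : F) :
    ∃ A : GL (Fin m) F, ∀ x, (A : Matrix (Fin m) (Fin m) F) *ᵥ x = x + (l * h x v) • v := by
  let T : F → Matrix (Fin m) (Fin m) F := fun l => LinearMap.toMatrix' (LinearMap.id + l • H.kk v)
  have hT : ∀ l x, T l *ᵥ x = x + (l * h x v) • v := fun l x => by
    show LinearMap.toMatrix' _ *ᵥ x = _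
    rw [LinearMap.toMatrix'_mulVec, LinearMap.add_apply, LinearMap.id_apply, LinearMap.smul_apply,
      AForm.kk_apply, smul_smul]
  have hinv : ∀ l, T l * T (-l) = 1 := fun l => Matrix.toLin'.injective (LinearMap.ext fun x => by
    rw [Matrix.toLin'_apply, Matrix.toLin'_apply, one_mulVec, ← mulVec_mulVec, hT, hT, H.add_left,
      H.smul_left, H.self, mul_zero, add_zero]
    module)
  exact ⟨⟨T l, T (-l), hinv l, by simpa using hinv (-l)⟩, hT l⟩

/-- The stabiliser of a tensor decomposition is maximal. -/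
theorem tensor_maximal (hn : 12 ≤ n) (Q : (Fin n → F) → F)
    (hQ : Cfsg.Geo.IsNondegenerateQuadraticForm Q) (h12 : a < b) (hex : ¬ (Fintype.card F = 2 ∧ a = 2))
    (e : Fin n ≃ Fin a × Fin b) (P : GL (Fin n) F) (f₁ : (Fin a → F) → (Fin a → F) → F)
    (f₂ : (Fin b → F) → (Fin b → F) → F) (hf₁ : Cfsg.Geo.IsSymplecticForm f₁)
    (hf₂ : Cfsg.Geo.IsSymplecticForm f₂)
    (hT : Cfsg.Geo.IsTensorFormStructure id (QuadraticMap.polar Q) f₁ f₂ e P)
    (hpure : ∀ (x₁ : Fin a → F) (x₂ : Fin b → F), Q ((P : Matrix (Fin n) (Fin n) F) *ᵥ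
      ((fun p : Fin a × Fin b => x₁ p.1 * x₂ p.2) ∘ e)) = 0) :
    Cfsg.Geo.IsMaximalIn (Cfsg.Geo.omegaGL Q)
      (Cfsg.Geo.tensorProductSubgroup a b e P ⊓ Cfsg.Geo.omegaGL Q) := by
  have hab : a * b = n := by simpa [Fintype.card_prod] using (Fintype.card_congr e).symm
  have even : ∀ {m : ℕ} {h : (Fin m → F) → (Fin m → F) → F}, Cfsg.Geo.IsSymplecticForm h → Even m :=
    fun {m h} hh => CfsgLib.Aschbacher.even_finrank_of_alternating hh.bilinear hh.alternating m ⊤
      (by rw [finrank_top, Module.finrank_fin_fun]) fun w _ hw => by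
        obtain ⟨y, hy⟩ := (hh.nondegenerate w hw).2
        exact ⟨y, Submodule.mem_top, hy⟩
  obtain ⟨a', ha'⟩ := even hf₁
  obtain ⟨b', hb'⟩ := even hf₂
  have ha : 2 ≤ a := by
    rcases Nat.eq_zero_or_pos a with h | h
    · rw [h, zero_mul] at hab; omega
    · omega
  have hb : 6 ≤ b := by
    by_contra hlt
    have := Nat.mul_le_mul (show a ≤ 2 by omega) (show b ≤ 4 by omega)
    omega
  have hprop : ¬ Cfsg.Geo.omegaGL Q ≤ Cfsg.Geo.tensorProductSubgroup a b e P :=
    CfsgLib.Aschbacher.OrthEven.not_le_tensor hQ ha (by omega) e P (Or.inr hpure)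
  refine ⟨lt_of_le_of_ne inf_le_right fun h => hprop (h ▸ inf_le_left), fun K hK hKG => ?_⟩
  by_cases hin : K ≤ Cfsg.Geo.tensorProductSubgroup a b e P
  · exact Or.inl (le_antisymm (le_inf hin hKG) hK)
  refine Or.inr (le_antisymm hKG ?_)
  rw [Cfsg.Geo.tensorProductSubgroup, CfsgLib.Aschbacher.map_glReindex_conj] at hK hin
  obtain ⟨R, rfl, hR⟩ := CfsgLib.MaxSub.Orth.exists_form hQ
  have hn5 : 5 ≤ Fintype.card (Fin n) := by rw [Fintype.card_fin]; omega
  have hn5' : 5 ≤ finrank F (Fin n → F) := by rw [Module.finrank_fin_fun]; omega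
  rw [CfsgLib.MaxSub.Orth.omegaGL_eq hR hn5] at hK hKG ⊢
  have mkH : ∀ {m : ℕ} {h : (Fin m → F) → (Fin m → F) → F}, Cfsg.Geo.IsSymplecticForm h → AForm h :=
    fun {m h} hh =>
    { add_left := hh.bilinear.add_left
      smul_left := hh.bilinear.smul_left
      self := hh.alternating
      swap := fun x y => hh.skew y x
      nondeg := fun x hx => by
        by_contra hc
        obtain ⟨y, hy⟩ := (hh.nondegenerate x hc).2
        exact hy (hx y) }
  have H1 := mkH hf₁
  have H2 := mkH hf₂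
  obtain ⟨c, hc0, hcT⟩ := hT
  let Φ : Matrix (Fin a) (Fin b) F →ₗ[F] (Fin n → F) :=
    (Matrix.toLin' (P : Matrix (Fin n) (Fin n) F)).comp ((LinearMap.funLeft F F e).comp flat.toLinearMap)
  have hΦ : ∀ X, Φ X = (P : Matrix (Fin n) (Fin n) F) *ᵥ (flat X ∘ e) := fun X => rfl
  let f : Matrix (Fin a) (Fin b) F → Matrix (Fin a) (Fin b) F → F :=
    fun X Y => c⁻¹ * QuadraticMap.polar R (Φ X) (Φ Y)
  have hcf : ∀ X Y, QuadraticMap.polar R (Φ X) (Φ Y) = c * f X Y := fun X Y => by
    show _ = c * (c⁻¹ * _)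
    rw [mul_inv_cancel_left₀ hc0]
  have hgram : ∀ {m : ℕ} {h : (Fin m → F) → (Fin m → F) → F}, AForm h → ∀ u v,
      h u v = ∑ i, ∑ j, u i * Cfsg.Geo.gramMatrix h i j * v j := fun {m h} H u v => by
    conv_lhs => rw [pi_eq_sum_univ' u, pi_eq_sum_univ' v, H.sum_left]
    refine Finset.sum_congr rfl fun i _ => ?_
    rw [H.smul_left, H.sum_right, Finset.mul_sum]
    refine Finset.sum_congr rfl fun j _ => ?_
    rw [H.smul_right, mul_comm (v j), ← mul_assoc]
    rfl
  have hfp : ∀ c' d v w, f (vecMulVec c' v) (vecMulVec d w) = f₁ c' d * f₂ v w := fun c' d v w => by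
    have h := hcT (flat (vecMulVec c' v)) (flat (vecMulVec d w))
    show c⁻¹ * _ = _
    rw [hΦ, hΦ, h, inv_mul_cancel_left₀ hc0, hgram H1, hgram H2, Cfsg.Geo.formOfGram, Fintype.sum_prod_type,
      Finset.sum_mul_sum]
    refine Finset.sum_congr rfl fun i _ => Finset.sum_congr rfl fun k _ => ?_
    rw [Fintype.sum_prod_type, Finset.sum_mul_sum]
    refine Finset.sum_congr rfl fun j _ => Finset.sum_congr rfl fun l _ => ?_
    show c' i * v k * (Cfsg.Geo.gramMatrix f₁ i j * Cfsg.Geo.gramMatrix f₂ k l) * (d j * w l) = _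
    ring
  have hΦsurj : Function.Surjective Φ := fun u =>
    ⟨flat.symm ((((P⁻¹ : GL (Fin n) F) : Matrix (Fin n) (Fin n) F) *ᵥ u) ∘ e.symm), by
      rw [hΦ, LinearEquiv.apply_symm_apply, Function.comp_assoc, Equiv.symm_comp_self, Function.comp_id,
        mulVec_mulVec, Units.mul_inv, one_mulVec]⟩
  have hΦinj : ∀ X, Φ X = 0 → X = 0 := fun X hX => by
    have h1 := congrArg (((P⁻¹ : GL (Fin n) F) : Matrix (Fin n) (Fin n) F) *ᵥ ·) hX
    simp only [hΦ, mulVec_mulVec, Units.inv_mul, one_mulVec, mulVec_zero] at h1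
    refine flat.map_eq_zero_iff.1 (funext fun p => ?_)
    simpa using congrFun h1 (e.symm p)
  have hQp : ∀ c' x, R (Φ (vecMulVec c' x)) = 0 := fun c' x => by
    rw [hΦ]
    exact hpure c' x
  -- the group
  let KK := K.comap (CfsgLib.Aschbacher.frU e P).toMonoidHom
  have hact : ∀ (M : GL (Fin a × Fin b) F) X,
      ((CfsgLib.Aschbacher.frU e P M : GL (Fin n) F) : Matrix (Fin n) (Fin n) F) *ᵥ Φ X
        = Φ (mmap M X) := fun M X => by
    rw [CfsgLib.Aschbacher.frU_val, CfsgLib.Aschbacher.frAlg_apply, hΦ, hΦ]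
    rw [mulVec_mulVec, mul_assoc, Units.inv_mul, mul_one, ← mulVec_mulVec, submatrix_mulVec_equiv,
      Function.comp_assoc, Equiv.self_comp_symm, Function.comp_id, mmap_apply, LinearEquiv.apply_symm_apply]
  have hmemK : ∀ (A : GL (Fin a) F) (B : GL (Fin b) F) (γ : quadIso R), γ ∈ Subgroup.closure (Sieg R) →
      (∀ X, γ.1 (Φ X) = Φ ((A : Matrix (Fin a) (Fin a) F) * X * (B : Matrix (Fin b) (Fin b) F)ᵀ)) →
      ∃ g ∈ KK.map mmap, ∀ X, g X = (A : Matrix (Fin a) (Fin a) F) * X * (B : Matrix (Fin b) (Fin b) F)ᵀ := by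
    intro A B γ hγ hγX
    obtain ⟨M, hM⟩ : ∃ M : GL (Fin a × Fin b) F, (M : Matrix (Fin a × Fin b) (Fin a × Fin b) F) =
        (A : Matrix (Fin a) (Fin a) F) ⊗ₖ (B : Matrix (Fin b) (Fin b) F) :=
      ⟨((Matrix.isUnit_iff_isUnit_det
        ((A : Matrix (Fin a) (Fin a) F) ⊗ₖ (B : Matrix (Fin b) (Fin b) F))).2 (by
          rw [Matrix.det_kronecker]
          exact ((Matrix.isUnit_iff_isUnit_det _).1 A.isUnit).pow _ |>.mul
            (((Matrix.isUnit_iff_isUnit_det _).1 B.isUnit).pow _))).unit, rfl⟩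
    have heq : CfsgLib.Aschbacher.frU e P M = CfsgLib.MaxSub.Orth.toMat R γ :=
      Units.ext (Matrix.toLin'.injective (LinearMap.ext fun u => by
        obtain ⟨X, rfl⟩ := hΦsurj u
        rw [Matrix.toLin'_apply, Matrix.toLin'_apply, hact, mmap_kron hM,
          CfsgLib.MaxSub.Orth.toMat_mulVec, hγX]))
    refine ⟨_, ⟨M, hK ⟨⟨M, ⟨A, B, hM⟩, rfl⟩, ?_⟩, rfl⟩, mmap_kron hM⟩
    show CfsgLib.Aschbacher.frU e P M ∈ _
    rw [heq]
    exact Subgroup.mem_map_of_mem _ hγ
  have hsmall : a ≠ 2 ∨ ∃ t : F, t ≠ 0 ∧ t ≠ 1 := by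
    by_cases h2 : a = 2
    · refine Or.inr ?_
      by_contra hc
      push Not at hc
      refine hex ⟨?_, h2⟩
      classical
      rw [Fintype.card_eq_nat_card, Nat.card_eq_two_iff]
      exact ⟨0, 1, zero_ne_one, Set.eq_univ_of_forall fun t => by
        by_cases ht : t = 0 <;> simp [ht, hc t]⟩
    · exact Or.inl h2
  have O : TS f₁ f₂ (fun X => c⁻¹ * R (Φ X)) f (KK.map mmap) :=
    { h1 := H1
      h2 := H2
      Q_smul := fun t X => by
        rw [map_smul, QuadraticMap.map_smul, smul_eq_mul]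
        ring
      Q_add := fun X Y => by
        show _ = c⁻¹ * _ + c⁻¹ * _ + c⁻¹ * _
        rw [map_add, QuadraticMap.map_add R]
        ring
      Q_pure := fun c' x => by rw [hQp, mul_zero]
      f_add := fun X Y Z => by
        show c⁻¹ * _ = c⁻¹ * _ + c⁻¹ * _
        rw [map_add, QuadraticMap.polar_add_left, mul_add]
      f_smul := fun t X Z => by
        show c⁻¹ * _ = t * (c⁻¹ * _)
        rw [map_smul, QuadraticMap.polar_smul_left, smul_eq_mul]
        ring
      f_nondeg := fun X hX => hΦinj X (hR.1 _ fun u => by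
        obtain ⟨Y, rfl⟩ := hΦsurj u
        show QuadraticMap.polar R (Φ X) (Φ Y) = 0
        rw [hcf, hX, mul_zero])
      f_pure := hfp
      isomQ := by
        rintro _ ⟨M, hM, rfl⟩ X
        obtain ⟨γ, -, hγ⟩ := hKG hM
        show c⁻¹ * R (Φ (mmap M X)) = c⁻¹ * R (Φ X)
        rw [← hact]
        erw [← hγ]
        rw [CfsgLib.MaxSub.Orth.toMat_mulVec, γ.2]
      tvR := fun v l => by
        obtain ⟨B, hB⟩ := tv_matrix H2 v l
        let D : Matrix (Fin a) (Fin b) F →ₗ[F] (Fin a → F) :=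
          LinearMap.pi fun i => (H2.lin v).comp (LinearMap.proj i)
        have hD : ∀ c' x, D (vecMulVec c' x) = f₂ x v • c' := fun c' x => funext fun i => by
          show f₂ (vecMulVec c' x i) v = _
          rw [show vecMulVec c' x i = c' i • x from rfl, H2.smul_left, Pi.smul_apply, smul_eq_mul, mul_comm]
        have hBT : ∀ X, (1 : Matrix (Fin a) (Fin a) F) * X * (B : Matrix (Fin b) (Fin b) F)ᵀ
            = X + l • colMap v (D X) := fun X => by
          refine ext_pure
            (A := ({ toFun := fun X => (1 : Matrix (Fin a) (Fin a) F) * X * (B : Matrix (Fin b) (Fin b) F)ᵀ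
                     map_add' := fun X Y => by rw [Matrix.mul_add, Matrix.add_mul]
                     map_smul' := fun t X => by rw [Matrix.mul_smul, Matrix.smul_mul, RingHom.id_apply] } :
                  Matrix (Fin a) (Fin b) F →ₗ[F] Matrix (Fin a) (Fin b) F))
            (B := LinearMap.id + l • (colMap v ∘ₗ D)) (fun c' x => ?_) X
          show (1 : Matrix (Fin a) (Fin a) F) * vecMulVec c' x * (B : Matrix (Fin b) (Fin b) F)ᵀ = vecMulVec c' x + l • vecMulVec (D _) v
          rw [Matrix.one_mul, vecMulVec_mul, vecMul_transpose, hB, vecMulVec_add, vmv_smul, hD,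
            smul_vecMulVec, smul_smul]
        obtain ⟨γ, hγ, hγX⟩ := tens_mem R hR hn5' Φ H1 D (colMap v) hc0 (fun d => hQp d v)
          (fun X d => by
            rw [hcf]
            exact congrArg (c * ·) (ext_pure (A :=
              ({ toFun := fun X => f X (vecMulVec d v)
                 map_add' := fun X Y => by
                   show c⁻¹ * _ = c⁻¹ * _ + c⁻¹ * _
                   rw [map_add, QuadraticMap.polar_add_left, mul_add]
                 map_smul' := fun t X => by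
                   show c⁻¹ * _ = t * (c⁻¹ * _)
                   rw [map_smul, QuadraticMap.polar_smul_left, smul_eq_mul]
                   ring } : Matrix (Fin a) (Fin b) F →ₗ[F] F))
              (B := (H1.lin d).comp D) (fun c' x => by
                show f (vecMulVec c' x) (vecMulVec d v) = f₁ (D (vecMulVec c' x)) d
                rw [hfp, hD, H1.smul_left, mul_comm]) X))
          (fun d => by rw [colMap_apply, hD, H2.self, zero_smul]) l
        obtain ⟨g, hg, hgX⟩ := hmemK 1 B γ hγ (fun X => by rw [hγX, Units.val_one, hBT])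
        refine ⟨g, hg, fun c' x => ?_⟩
        rw [hgX, Units.val_one, Matrix.one_mul, vecMulVec_mul, vecMul_transpose, hB]
      tvL := fun v l => by
        obtain ⟨A, hA⟩ := tv_matrix H1 v l
        let D : Matrix (Fin a) (Fin b) F →ₗ[F] (Fin b → F) :=
          { toFun := fun X j => f₁ (fun i => X i j) v
            map_add' := fun X Y => funext fun j => H1.add_left (fun i => X i j) (fun i => Y i j) v
            map_smul' := fun t X => funext fun j => H1.smul_left t (fun i => X i j) v }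
        let J : (Fin b → F) →ₗ[F] Matrix (Fin a) (Fin b) F :=
          { toFun := fun x => vecMulVec v x
            map_add' := fun x y => vecMulVec_add v x y
            map_smul' := fun t x => vmv_smul v t x }
        have hD : ∀ c' x, D (vecMulVec c' x) = f₁ c' v • x := fun c' x => funext fun j => by
          show f₁ (fun i => c' i * x j) v = _
          rw [show (fun i => c' i * x j) = x j • c' from funext fun i => mul_comm _ _, H1.smul_left,
            Pi.smul_apply, smul_eq_mul, mul_comm]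
        have hAT : ∀ X, (A : Matrix (Fin a) (Fin a) F) * X * (1 : Matrix (Fin b) (Fin b) F)ᵀ
            = X + l • J (D X) := fun X => by
          refine ext_pure
            (A := ({ toFun := fun X => (A : Matrix (Fin a) (Fin a) F) * X * (1 : Matrix (Fin b) (Fin b) F)ᵀ
                     map_add' := fun X Y => by rw [Matrix.mul_add, Matrix.add_mul]
                     map_smul' := fun t X => by rw [Matrix.mul_smul, Matrix.smul_mul, RingHom.id_apply] } :
                  Matrix (Fin a) (Fin b) F →ₗ[F] Matrix (Fin a) (Fin b) F))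
            (B := LinearMap.id + l • (J ∘ₗ D)) (fun c' x => ?_) X
          show (A : Matrix (Fin a) (Fin a) F) * vecMulVec c' x * (1 : Matrix (Fin b) (Fin b) F)ᵀ = vecMulVec c' x + l • vecMulVec v (D _)
          rw [transpose_one, Matrix.mul_one, mul_vecMulVec, hA, add_vecMulVec, smul_vecMulVec, hD, vmv_smul,
            smul_smul]
        obtain ⟨γ, hγ, hγX⟩ := tens_mem R hR hn5' Φ H2 D J hc0 (fun d => hQp v d)
          (fun X d => by
            rw [hcf]
            exact congrArg (c * ·) (ext_pure (A :=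
              ({ toFun := fun X => f X (vecMulVec v d)
                 map_add' := fun X Y => by
                   show c⁻¹ * _ = c⁻¹ * _ + c⁻¹ * _
                   rw [map_add, QuadraticMap.polar_add_left, mul_add]
                 map_smul' := fun t X => by
                   show c⁻¹ * _ = t * (c⁻¹ * _)
                   rw [map_smul, QuadraticMap.polar_smul_left, smul_eq_mul]
                   ring } : Matrix (Fin a) (Fin b) F →ₗ[F] F))
              (B := (H2.lin d).comp D) (fun c' x => by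
                show f (vecMulVec c' x) (vecMulVec v d) = f₂ (D (vecMulVec c' x)) d
                rw [hfp, hD, H2.smul_left]) X))
          (fun d => by show D (vecMulVec v d) = 0; rw [hD, H1.self, zero_smul]) l
        obtain ⟨g, hg, hgX⟩ := hmemK A 1 γ hγ (fun X => by rw [hγX, Units.val_one, hAT])
        refine ⟨g, hg, fun c' x => ?_⟩
        rw [hgX, Units.val_one, transpose_one, Matrix.mul_one, mul_vecMulVec, hA]
      two := by rwa [Fintype.card_fin]
      lt := by rw [Fintype.card_fin, Fintype.card_fin]; omega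
      six := by rwa [Fintype.card_fin]
      four := by rw [Fintype.card_fin]; omega
      small := by rwa [Fintype.card_fin] }
  obtain ⟨g₀, hg₀, hg₀n⟩ := SetLike.not_le_iff_exists.1 hin
  obtain ⟨M₀, rfl⟩ := (CfsgLib.Aschbacher.frU e P).surjective g₀
  obtain ⟨W, hW, hnp⟩ : ∃ W, Mem (KK.map mmap) W ∧ NP W := by
    refine exists_np O (Subgroup.mem_map_of_mem _ (show M₀ ∈ KK from hg₀)) ?_
    rintro ⟨Ψ, Q', hform⟩
    have hMk : (M₀ : Matrix (Fin a × Fin b) (Fin a × Fin b) F) = Ψ ⊗ₖ Q'ᵀ := by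
      refine Matrix.toLin'.injective (LinearMap.ext fun x => ?_)
      have h := hform (flat.symm x)
      rw [mmap_apply, LinearEquiv.apply_symm_apply] at h
      rw [Matrix.toLin'_apply, Matrix.toLin'_apply, ← LinearEquiv.apply_symm_apply flat (_ *ᵥ x), h]
      funext ⟨i, j⟩
      show (Ψ * flat.symm x * Q') i j = ((Ψ ⊗ₖ Q'ᵀ) *ᵥ x) (i, j)
      simp only [Matrix.mulVec, dotProduct, Fintype.sum_prod_type, Matrix.mul_apply,
        Matrix.kroneckerMap_apply, Matrix.transpose_apply, Finset.sum_mul]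
      rw [Finset.sum_comm]
      refine Finset.sum_congr rfl fun k _ => Finset.sum_congr rfl fun l _ => ?_
      show Ψ i k * x (k, l) * Q' l j = Ψ i k * Q' l j * x (k, l)
      ring
    have hdet : IsUnit (Ψ ⊗ₖ Q'ᵀ).det := hMk ▸ (Matrix.isUnit_iff_isUnit_det _).1 M₀.isUnit
    rw [Matrix.det_kronecker, IsUnit.mul_iff, Fintype.card_fin, Fintype.card_fin,
      isUnit_pow_iff (by omega), isUnit_pow_iff (by omega)] at hdet
    exact hg₀n ⟨M₀, ⟨((Matrix.isUnit_iff_isUnit_det Ψ).2 hdet.1).unit,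
      ((Matrix.isUnit_iff_isUnit_det Q'ᵀ).2 hdet.2).unit, hMk⟩, rfl⟩
  have hEx := ex_of_np O hW hnp
  rw [Subgroup.map_le_iff_le_comap, Subgroup.closure_le]
  rintro γ ⟨u, v, t, hu, hv, huv, hγ⟩
  rw [sieg_eich R hv] at hγ
  obtain ⟨Y, rfl⟩ := hΦsurj u
  obtain ⟨Z, rfl⟩ := hΦsurj v
  have hZY : f ((c * t) • Z) Y = 0 := by
    rw [O.f_smul]
    show _ * (c⁻¹ * _) = 0
    rw [QuadraticMap.polar_comm, huv]
    ring
  obtain ⟨-, g, ⟨M, hM, rfl⟩, hgX⟩ := siegel_all O hEx (Y := Y) (W := (c * t) • Z)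
    (show c⁻¹ * R (Φ Y) = 0 by rw [hu, mul_zero]) hZY
  show CfsgLib.MaxSub.Orth.toMat R γ ∈ K
  convert (show CfsgLib.Aschbacher.frU e P M ∈ K from hM) using 1
  refine Units.ext (Matrix.toLin'.injective (LinearMap.ext fun u => ?_))
  obtain ⟨X, rfl⟩ := hΦsurj u
  rw [Matrix.toLin'_apply, Matrix.toLin'_apply, CfsgLib.MaxSub.Orth.toMat_mulVec, hγ, hact, hgX]
  simp only [map_sub, map_add, map_smul]
  show _ = Φ X + (c⁻¹ * QuadraticMap.polar R (Φ X) (Φ Y)) • (c * t) • Φ Z
    - (c⁻¹ * QuadraticMap.polar R (Φ X) (Φ ((c * t) • Z))) • Φ Y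
    - (c⁻¹ * R ((c * t) • Φ Z) * (c⁻¹ * QuadraticMap.polar R (Φ X) (Φ Y))) • Φ Y
  simp only [map_smul]
  rw [QuadraticMap.map_smul, QuadraticMap.map_smul, hv, QuadraticMap.polar_smul_right,
    QuadraticMap.polar_smul_left, QuadraticMap.polar_comm R (Φ Y), QuadraticMap.polar_comm R (Φ Z)]
  simp only [smul_eq_mul, smul_smul, mul_zero, zero_mul, zero_smul, sub_zero]
  match_scalars <;> field_simp

end CfsgLib.MaxSub.TensorSymp
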